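import Groth.Agent.PlaneTwistLib.Converse
import Groth.Agent.OqsLib.Quad
import Mathlib.LinearAlgebra.Matrix.NonsingularInverse
import Mathlib.LinearAlgebra.Matrix.ToLin
import Mathlib.RingTheory.Nullstellensatz

/-!
# Non-degenerate quadrics, algebraically
-/

set_option autoImplicit false
set_option maxHeartbeats 600000
set_option linter.style.haveILetI false
universe u
open MvPolynomial AlgebraicGeometry Matrix

noncomputable section

namespace Groth.Agent.OdpLib

variable {k : Type u} [Field k] {n : ℕ}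

/-- The quadric of `G` has no singular point. -/
def ND (G : Matrix (Fin n) (Fin n) k) : Prop :=
  ∀ v : Fin n → k, v ⬝ᵥ (G *ᵥ v) = 0 → (G + Gᵀ) *ᵥ v = 0 → v = 0

theorem ND.congr {G L : Matrix (Fin n) (Fin n) k} (h : ND G) (hL : IsUnit L.det) : ND (Lᵀ * G * L) := by
  intro v h1 h2
  have e1 : v ⬝ᵥ ((Lᵀ * G * L) *ᵥ v) = (L *ᵥ v) ⬝ᵥ (G *ᵥ (L *ᵥ v)) := by
    rw [← mulVec_mulVec, ← mulVec_mulVec, dotProduct_mulVec v Lᵀ, vecMul_transpose]
  have e2 : (Lᵀ * G * L + (Lᵀ * G * L)ᵀ) *ᵥ v = Lᵀ *ᵥ ((G + Gᵀ) *ᵥ (L *ᵥ v)) := by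
    rw [transpose_mul, transpose_mul, transpose_transpose, mulVec_mulVec, mulVec_mulVec, mul_add, add_mul,
      Matrix.mul_assoc Lᵀ Gᵀ L]
  rw [e1] at h1
  rw [e2] at h2
  have hLt : Function.Injective Lᵀ.mulVec := mulVec_injective_iff_isUnit.2 ((isUnit_iff_isUnit_det _).2 (by rwa [det_transpose]))
  have h3 : L *ᵥ v = 0 := h _ h1 (hLt (by rw [h2, mulVec_zero]))
  exact mulVec_injective_iff_isUnit.2 ((isUnit_iff_isUnit_det _).2 hL) (by rw [h3, mulVec_zero])

/-- The quadratic polynomial of a matrix. -/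
def polyQ {R : Type u} [CommRing R] (G : Matrix (Fin n) (Fin n) R) : MvPolynomial (Fin n) R :=
  ∑ l, ∑ j, C (G l j) * (X l * X j)

theorem polyQ_isHomogeneous (G : Matrix (Fin n) (Fin n) k) : (polyQ G).IsHomogeneous 2 :=
  IsHomogeneous.sum _ _ _ fun l _ => IsHomogeneous.sum _ _ _ fun j _ =>
    ((isHomogeneous_X k l).mul (isHomogeneous_X k j)).C_mul _

theorem eval_polyQ (G : Matrix (Fin n) (Fin n) k) (v : Fin n → k) : eval v (polyQ G) = v ⬝ᵥ (G *ᵥ v) := by
  simp only [polyQ, map_sum, map_mul, eval_C, eval_X, dotProduct, mulVec, Finset.mul_sum]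
  exact Finset.sum_congr rfl fun l _ => Finset.sum_congr rfl fun j _ => by ring

theorem eval_pderiv_polyQ (G : Matrix (Fin n) (Fin n) k) (v : Fin n → k) (i : Fin n) :
    eval v (pderiv i (polyQ G)) = ((G + Gᵀ) *ᵥ v) i := by
  classical
  simp only [polyQ, map_sum, Derivation.leibniz, pderiv_X, smul_eq_mul, pderiv_C, mul_zero, add_zero, map_mul,
    eval_C, eval_X, map_add, mulVec, dotProduct, Matrix.add_apply, Matrix.transpose_apply, add_mul, mul_add,
    Finset.sum_add_distrib]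
  simp only [Pi.single_apply, eq_comm (a := i), apply_ite (eval v), map_one, map_zero, mul_ite, mul_one, mul_zero,
    Finset.sum_ite_eq', Finset.mem_univ, if_true, Finset.sum_ite_irrel, Finset.sum_const_zero]
  rw [add_comm]

/-- The form of a matrix. -/
def formQ {m : ℕ} (G : Matrix (Fin (m + 1)) (Fin (m + 1)) k) : LefPen.Form m k 2 :=
  ⟨polyQ G, (mem_homogeneousSubmodule _ _).2 (polyQ_isHomogeneous G)⟩

theorem pderiv_chartEqn {m : ℕ} (F : LefPen.Form m k 2) (i : Fin (m + 1)) (j : Fin m) :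
    pderiv j (PlaneTwistLib.chartEqn F i) =
      aeval (PicProjLib.dehomVec m k i) (pderiv (i.succAbove j) F.1) := by
  classical
  show pderiv j (aeval (PicProjLib.dehomVec m k i) F.1) = _
  induction F.1 using MvPolynomial.induction_on with
  | C a => simp
  | add p q hp hq => simp only [map_add, hp, hq]
  | mul_X p a hp =>
    simp only [map_mul, aeval_X, Derivation.leibniz, hp, smul_eq_mul, map_add]
    congr 1
    rcases Fin.eq_self_or_eq_succAbove i a with rfl | ⟨l, rfl⟩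
    · simp [PicProjLib.dehomVec, pderiv_X, Fin.succAbove_ne]
    · rcases eq_or_ne l j with rfl | hlj
      · simp [PicProjLib.dehomVec, pderiv_X]
      · simp [PicProjLib.dehomVec, pderiv_X, hlj.symm, hlj, Fin.succAbove_right_inj]

theorem eval_dehom {m : ℕ} (i : Fin (m + 1)) (a : Fin m → k) (P : MvPolynomial (Fin (m + 1)) k) :
    eval a (aeval (PicProjLib.dehomVec m k i) P) = eval (Fin.insertNth (α := fun _ => k) i 1 a) P := by
  show aeval a (aeval (PicProjLib.dehomVec m k i) P) = aeval _ P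
  rw [← AlgHom.comp_apply, comp_aeval]
  congr 2
  funext j
  rcases Fin.eq_self_or_eq_succAbove i j with rfl | ⟨l, rfl⟩ <;> simp [PicProjLib.dehomVec]

theorem insertNth_scale {m : ℕ} (i : Fin (m + 1)) (v : Fin (m + 1) → k) (hi : v i ≠ 0) :
    Fin.insertNth (α := fun _ => k) i 1 (fun l => (v i)⁻¹ * v (i.succAbove l)) = (v i)⁻¹ • v := by
  funext j
  rcases Fin.eq_self_or_eq_succAbove i j with rfl | ⟨l, rfl⟩ <;> simp [hi]

theorem nd_of_nondegQuad [IsAlgClosed k] {m : ℕ} (G : Matrix (Fin (m + 1)) (Fin (m + 1)) k)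
    (h : LefPen.NondegQuad k (formQ G)) : ND G := by
  intro v h1 h2
  by_contra hv
  obtain ⟨i, hi⟩ : ∃ i, v i ≠ 0 := Function.ne_iff.1 hv
  have hne : formQ G ≠ 0 := fun e => h.1 (by rw [e]; rfl)
  rcases h.2 with rfl | hsm
  · have hi0 : i = 0 := Fin.ext (by omega)
    subst hi0
    simp [dotProduct, mulVec] at h1
    rcases h1 with h1 | h1
    · exact hi h1
    · rcases h1 with h1 | h1
      · refine h.1 ?_
        show polyQ G = 0
        simp [polyQ, h1]
      · exact hi h1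
  · haveI : Infinite k := IsAlgClosed.instInfinite
    let a : Fin m → k := fun l => (v i)⁻¹ * v (i.succAbove l)
    have hchart : PlaneTwistLib.chartEqn (formQ G) i ≠ 0 := by
      intro h0
      obtain ⟨w, hw⟩ : ∃ w, eval w (polyQ G * MvPolynomial.X i) ≠ 0 := by
        by_contra hcon
        push Not at hcon
        exact mul_ne_zero h.1 (MvPolynomial.X_ne_zero i) (MvPolynomial.funext fun w => (hcon w).trans (map_zero _).symm)
      rw [map_mul, eval_X, mul_ne_zero_iff] at hw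
      have h3 := congrArg (eval fun l => (w i)⁻¹ * w (i.succAbove l)) h0
      rw [map_zero, PlaneTwistLib.eval_chartEqn, insertNth_scale i w hw.2] at h3
      have h4 : eval ((w i)⁻¹ • w) (polyQ G) = 0 := h3
      rw [eval_polyQ, mulVec_smul, smul_dotProduct, dotProduct_smul, smul_eq_mul, smul_eq_mul] at h4
      rw [eval_polyQ] at hw
      simp [hw.1, hw.2] at h4
    obtain ⟨j, hj⟩ := PlaneTwistLib.not_singular_of_smooth (formQ G) hne hsm i hchart (Ω := k) a (by
      show eval a (PlaneTwistLib.chartEqn (formQ G) i) = 0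
      rw [PlaneTwistLib.eval_chartEqn, insertNth_scale i v hi]
      show eval _ (polyQ G) = 0
      rw [eval_polyQ, mulVec_smul, smul_dotProduct, dotProduct_smul, h1, smul_zero, smul_zero])
    refine hj ?_
    show eval a (pderiv j (PlaneTwistLib.chartEqn (formQ G) i)) = 0
    rw [pderiv_chartEqn, eval_dehom, insertNth_scale i v hi]
    show eval _ (pderiv _ (polyQ G)) = 0
    rw [eval_pderiv_polyQ, mulVec_smul, h2, smul_zero]
    rfl

theorem nondegQuad_of_nd [IsAlgClosed k] {m : ℕ} (G : Matrix (Fin (m + 1)) (Fin (m + 1)) k) (h : ND G) :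
    LefPen.NondegQuad k (formQ G) := by
  classical
  have hne : polyQ G ≠ 0 := by
    intro h0
    have := h (Pi.single 0 1) (by rw [← eval_polyQ, h0, map_zero])
      (funext fun i => by rw [← eval_pderiv_polyQ, h0, map_zero, map_zero]; rfl)
    simpa using congrFun this 0
  refine ⟨hne, Or.inr (PlaneTwistLib.smooth_of_derivation (formQ G) (fun e => hne (congrArg Subtype.val e)) fun i => ?_)⟩
  let E := PlaneTwistLib.chartEqn (formQ G) i
  let J : Ideal (MvPolynomial (Fin m) k) := Ideal.span (insert E (Set.range fun j => pderiv j E))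
  have hempty : MvPolynomial.zeroLocus k J = ∅ := by
    rw [Set.eq_empty_iff_forall_notMem]
    intro a ha
    rw [MvPolynomial.mem_zeroLocus_iff] at ha
    have h0 : eval a E = 0 := ha E (Ideal.subset_span (Set.mem_insert _ _))
    have hp : ∀ j, eval a (pderiv j E) = 0 := fun j => ha _ (Ideal.subset_span (Set.mem_insert_of_mem _ ⟨j, rfl⟩))
    let v : Fin (m + 1) → k := Fin.insertNth (α := fun _ => k) i 1 a
    have hv1 : v ⬝ᵥ (G *ᵥ v) = 0 := by
      rw [← eval_polyQ]
      simp only [E, PlaneTwistLib.eval_chartEqn] at h0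
      exact h0
    have hv2 : ∀ j, ((G + Gᵀ) *ᵥ v) (i.succAbove j) = 0 := fun j => by
      have := hp j
      rw [pderiv_chartEqn, eval_dehom] at this
      rwa [← eval_pderiv_polyQ]
    have hv3 : ((G + Gᵀ) *ᵥ v) i = 0 := by
      have e : v ⬝ᵥ ((G + Gᵀ) *ᵥ v) = 0 := by
        rw [add_mulVec, dotProduct_add, mulVec_transpose, dotProduct_comm v (v ᵥ* G), ← dotProduct_mulVec, hv1, add_zero]
      rw [dotProduct, Fin.sum_univ_succAbove _ i] at e
      simpa [v, hv2] using e
    have hv : v = 0 := h v hv1 (funext fun j => by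
      rcases Fin.eq_self_or_eq_succAbove i j with rfl | ⟨l, rfl⟩
      · exact hv3
      · exact hv2 l)
    simpa [v] using congrFun hv i
  have h1 : (1 : MvPolynomial (Fin m) k) ∈ J := by
    have := MvPolynomial.vanishingIdeal_zeroLocus_eq_radical (K := k) J
    rw [hempty, MvPolynomial.vanishingIdeal_empty] at this
    have h2 : (1 : MvPolynomial (Fin m) k) ∈ J.radical := this ▸ trivial
    obtain ⟨l, hl⟩ := h2
    rwa [one_pow] at hl
  rw [show J = Ideal.span (insert E (Set.range fun j => pderiv j E)) from rfl, Ideal.mem_span_insert] at h1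
  obtain ⟨c, z, hz, hcz⟩ := h1
  obtain ⟨α, rfl⟩ := Ideal.mem_span_range_iff_exists_fun.1 hz
  refine ⟨mkDerivation k α, ?_⟩
  have e : mkDerivation k α E = ∑ j, α j * pderiv j E := by
    have : mkDerivation k α = ∑ j, α j • pderiv j := by
      refine derivation_ext fun l => ?_
      rw [mkDerivation_X, ← Derivation.coeFnAddMonoidHom_apply, map_sum, Finset.sum_apply]
      simp [Derivation.coeFnAddMonoidHom_apply, pderiv_X, Pi.single_apply, eq_comm]
    rw [this, ← Derivation.coeFnAddMonoidHom_apply, map_sum, Finset.sum_apply]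
    rfl
  rw [e, show (∑ j, α j * pderiv j E) - 1 = -(c * E) by linear_combination -hcz]
  exact neg_mem (Ideal.mul_mem_left _ _ (Ideal.mem_span_singleton_self _))

/-- The robust form of non-degeneracy. -/
def test {R : Type u} [CommRing R] (ι : k →+* R) :
    Option ((Fin n → k) × (Fin n → k)) → Matrix (Fin n) (Fin n) R → Matrix (Fin n) (Fin n) R → R
  | none, _, H => H.det
  | some (w, w'), G, H =>
    let M := H + vecMulVec (ι ∘ w) (ι ∘ w')
    let v := M.adjugate *ᵥ (ι ∘ w)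
    M.det * (v ⬝ᵥ (G *ᵥ v))

theorem map_test {R S : Type u} [CommRing R] [CommRing S] (ι : k →+* R) (f : R →+* S)
    (o : Option ((Fin n → k) × (Fin n → k))) (G H : Matrix (Fin n) (Fin n) R) :
    f (test ι o G H) = test (f.comp ι) o (G.map f) (H.map f) := by
  rcases o with - | ⟨w, w'⟩
  · exact f.map_det H
  · have hM : (H + vecMulVec (ι ∘ w) (ι ∘ w')).map f = H.map f + vecMulVec ((f.comp ι) ∘ w) ((f.comp ι) ∘ w') := by
      ext a b; simp [vecMulVec_apply]
    have hv : f ∘ ((H + vecMulVec (ι ∘ w) (ι ∘ w')).adjugate *ᵥ (ι ∘ w)) =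
        (H.map f + vecMulVec ((f.comp ι) ∘ w) ((f.comp ι) ∘ w')).adjugate *ᵥ ((f.comp ι) ∘ w) := by
      rw [← hM]
      funext a
      simp only [Function.comp_apply, RingHom.map_mulVec]
      rw [← RingHom.mapMatrix_apply, RingHom.map_adjugate]
      rfl
    simp only [test, map_mul, RingHom.map_dotProduct]
    rw [RingHom.map_det, RingHom.mapMatrix_apply, hM, ← hv]
    congr 2
    funext a
    simp only [Function.comp_apply, RingHom.map_mulVec]

/-- A nonzero test excludes the singular vectors. -/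
theorem eq_zero_of_test {o : Option ((Fin n → k) × (Fin n → k))} {G H : Matrix (Fin n) (Fin n) k}
    (h : test (RingHom.id k) o G H ≠ 0) {u : Fin n → k} (h1 : u ⬝ᵥ (G *ᵥ u) = 0) (h2 : H *ᵥ u = 0) : u = 0 := by
  classical
  rcases o with - | ⟨w, w'⟩
  · exact mulVec_injective_iff_isUnit.2 ((isUnit_iff_isUnit_det _).2 (isUnit_iff_ne_zero.2 h)) (by rw [h2, mulVec_zero])
  · simp only [test, RingHom.coe_id, Function.id_comp, mul_ne_zero_iff] at h
    obtain ⟨hd, hq⟩ := h
    set M := H + vecMulVec w w' with hM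
    have e : M *ᵥ u = (w' ⬝ᵥ u) • w := by
      rw [hM, add_mulVec, h2, zero_add, vecMulVec_mulVec, op_smul_eq_smul]
    have e2 : M.det • u = (w' ⬝ᵥ u) • (M.adjugate *ᵥ w) := by
      rw [← mulVec_smul, ← e, mulVec_mulVec, adjugate_mul, smul_mulVec, one_mulVec]
    have hc : w' ⬝ᵥ u = 0 := by
      by_contra hc
      have h3 : (w' ⬝ᵥ u) • (M.adjugate *ᵥ w) ⬝ᵥ (G *ᵥ ((w' ⬝ᵥ u) • (M.adjugate *ᵥ w))) = 0 := by
        rw [← e2, mulVec_smul, smul_dotProduct, dotProduct_smul, h1, smul_zero, smul_zero]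
      rw [mulVec_smul, smul_dotProduct, dotProduct_smul, smul_eq_mul, smul_eq_mul] at h3
      exact hq ((mul_eq_zero.1 h3).resolve_left hc |> fun h4 => (mul_eq_zero.1 h4).resolve_left hc)
    rw [hc, zero_smul] at e2
    exact (smul_eq_zero.1 e2).resolve_left hd

/-- A non-degenerate matrix passes some test. -/
theorem exists_test [IsAlgClosed k] {G : Matrix (Fin n) (Fin n) k} (h : ND G) :
    ∃ o, test (RingHom.id k) o G (G + Gᵀ) ≠ 0 := by
  classical
  by_cases hd : (G + Gᵀ).det = 0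
  swap
  · exact ⟨none, hd⟩
  obtain ⟨v, hv, hvH⟩ := exists_mulVec_eq_zero_iff.2 hd
  have hqv : v ⬝ᵥ (G *ᵥ v) ≠ 0 := fun h0 => hv (h v h0 hvH)
  have hline : ∀ u, (G + Gᵀ) *ᵥ u = 0 → ∃ c : k, u = c • v := by
    intro u hu
    obtain ⟨c, hc⟩ := IsAlgClosed.exists_pow_nat_eq (-(v ⬝ᵥ (G *ᵥ v))⁻¹ * (u ⬝ᵥ (G *ᵥ u))) zero_lt_two
    refine ⟨-c, ?_⟩
    have hcross : u ⬝ᵥ (G *ᵥ v) + v ⬝ᵥ (G *ᵥ u) = 0 := by
      have e : u ⬝ᵥ ((G + Gᵀ) *ᵥ v) = u ⬝ᵥ (G *ᵥ v) + v ⬝ᵥ (G *ᵥ u) := by
        rw [add_mulVec, dotProduct_add, mulVec_transpose, dotProduct_comm u (v ᵥ* G), ← dotProduct_mulVec]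
      rw [← e, hvH, dotProduct_zero]
    have hz : (u + c • v) = 0 := h _ (by
      rw [mulVec_add, mulVec_smul, dotProduct_add, add_dotProduct, add_dotProduct, dotProduct_smul, dotProduct_smul,
        smul_dotProduct, smul_dotProduct, smul_eq_mul, smul_eq_mul, smul_eq_mul, smul_eq_mul]
      have hc2 : c ^ 2 * (v ⬝ᵥ (G *ᵥ v)) = -(u ⬝ᵥ (G *ᵥ u)) := by rw [hc]; field_simp
      linear_combination c * hcross + hc2) (by
      rw [mulVec_add, mulVec_smul, hu, hvH, smul_zero, add_zero])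
    rw [neg_smul]
    exact eq_neg_of_add_eq_zero_left hz
  obtain ⟨i, hi⟩ : ∃ i, v i ≠ 0 := Function.ne_iff.1 hv
  let w' : Fin n → k := Pi.single i (v i)⁻¹
  have hw'v : w' ⬝ᵥ v = 1 := by simp [w', hi]
  obtain ⟨w, hw⟩ : ∃ w : Fin n → k, ∀ u, (G + Gᵀ) *ᵥ u ≠ w := by
    by_contra! hcon
    have hsur : Function.Surjective (G + Gᵀ).mulVecLin := fun w => hcon w
    exact hv (LinearMap.injective_iff_surjective.2 hsur (show (G + Gᵀ).mulVecLin v = (G + Gᵀ).mulVecLin 0 by
      simp only [mulVecLin_apply, hvH, mulVec_zero]))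
  refine ⟨some (w, w'), ?_⟩
  simp only [test, RingHom.coe_id, Function.id_comp]
  set M := G + Gᵀ + vecMulVec w w' with hM
  have hMu : ∀ u, M *ᵥ u = (G + Gᵀ) *ᵥ u + (w' ⬝ᵥ u) • w := fun u => by
    rw [hM, add_mulVec, vecMulVec_mulVec, op_smul_eq_smul]
  have hdet : M.det ≠ 0 := by
    intro h0
    obtain ⟨u, hu, hMu0⟩ := exists_mulVec_eq_zero_iff.2 h0
    rw [hMu] at hMu0
    have hc : w' ⬝ᵥ u = 0 := by
      by_contra hc
      refine hw (-(w' ⬝ᵥ u)⁻¹ • u) ?_
      rw [mulVec_smul, eq_neg_of_add_eq_zero_left hMu0, neg_smul, smul_neg, neg_neg, smul_smul, inv_mul_cancel₀ hc, one_smul]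
    rw [hc, zero_smul, add_zero] at hMu0
    obtain ⟨c, rfl⟩ := hline u hMu0
    rw [dotProduct_smul, hw'v, smul_eq_mul, mul_one] at hc
    exact hu (by rw [hc, zero_smul])
  have hMv : M.adjugate *ᵥ w = M.det • v := by
    have : M *ᵥ v = w := by rw [hMu, hvH, zero_add, hw'v, one_smul]
    rw [← this, mulVec_mulVec, adjugate_mul, smul_mulVec, one_mulVec]
  rw [hMv, mulVec_smul, smul_dotProduct, dotProduct_smul, smul_eq_mul, smul_eq_mul]
  exact mul_ne_zero hdet (mul_ne_zero hdet (mul_ne_zero hdet hqv))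

end Groth.Agent.OdpLib
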