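import Groth.Agent.OdpLib.Taylor
import Groth.Agent.OdpLib.ND

/-!
# The second jet in formal coordinates
-/

set_option autoImplicit false
set_option maxHeartbeats 600000
set_option backward.isDefEq.respectTransparency false
set_option linter.style.haveILetI false
universe u
open TensorProduct KaehlerDifferential Module IsLocalRing MvPowerSeries Matrix

noncomputable section

namespace Groth.Agent.OdpLib

variable {k : Type u} [Field k] {n : ℕ}

local notation "PS" => MvPowerSeries (Fin n) k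
local notation "M" => maximalIdeal (MvPowerSeries (Fin n) k)

theorem X_mem_max (i : Fin n) : (X i : PS) ∈ M := by
  rw [PSSmoothLib.maximalIdeal_eq_span]
  exact Ideal.subset_span ⟨i, rfl⟩

theorem mem_max_iff (h : PS) : h ∈ M ↔ constantCoeff h = 0 := by
  rw [IsLocalRing.mem_maximalIdeal, mem_nonunits_iff, MvPowerSeries.isUnit_iff_constantCoeff, isUnit_iff_ne_zero, not_not]

theorem exists_linPart {h : PS} (hh : h ∈ M) : ∃ a : Fin n → k, h - ∑ i, C (a i) * X i ∈ M ^ 2 := by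
  rw [PSSmoothLib.maximalIdeal_eq_span, Ideal.mem_span_range_iff_exists_fun] at hh
  obtain ⟨c, rfl⟩ := hh
  refine ⟨fun i => constantCoeff (c i), ?_⟩
  rw [← Finset.sum_sub_distrib]
  refine Ideal.sum_mem _ fun i _ => ?_
  rw [← sub_mul, pow_two]
  exact Ideal.mul_mem_mul ((mem_max_iff _).2 (by simp)) (X_mem_max i)

theorem lin_unique {a : Fin n → k} {c : k} (h : C c + ∑ i, C (a i) * (X i : PS) ∈ M ^ 2) : c = 0 ∧ a = 0 := by
  classical
  have hc : ∀ e : Fin n →₀ ℕ, e.degree < 2 → coeff e (C c + ∑ i, C (a i) * (X i : PS)) = 0 := fun e he =>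
    coeff_of_lt_order (lt_of_lt_of_le (by exact_mod_cast he) (PSSmoothLib.pow_le_orderIdeal 2 h))
  refine ⟨?_, funext fun j => ?_⟩
  · have := hc 0 (by simp)
    simpa [coeff_X, map_sum] using this
  · have := hc (Finsupp.single j 1) (by simp)
    simpa [coeff_X, map_sum, coeff_C, Finsupp.single_eq_zero, Finsupp.single_left_inj one_ne_zero] using this

theorem quad_unique {P : MvPolynomial (Fin n) k} (hP : P.IsHomogeneous 2) (h : (P : PS) ∈ M ^ 3) : P = 0 := by
  ext e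
  rw [MvPolynomial.coeff_zero]
  by_cases he : e.degree = 2
  · rw [← MvPolynomial.coeff_coe]
    exact coeff_of_lt_order (lt_of_lt_of_le (by rw [he]; norm_num) (PSSmoothLib.pow_le_orderIdeal 3 h))
  · exact hP.coeff_eq_zero he

theorem coe_polyQ (G : Matrix (Fin n) (Fin n) k) :
    ((polyQ G : MvPolynomial (Fin n) k) : PS) = ∑ l, ∑ j, C (G l j) * (X l * X j) := by
  rw [polyQ]
  simp only [← MvPolynomial.coeToMvPowerSeries.ringHom_apply, map_sum, map_mul]
  simp

theorem quadForm_congr {ξ : Fin n → PS} (L G : Matrix (Fin n) (Fin n) k) (hξ : ∀ l, ξ l ∈ M)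
    (hL : ∀ l, ξ l - ∑ i, C (L l i) * X i ∈ M ^ 2) :
    (∑ l, ∑ j, C (G l j) * (ξ l * ξ j)) - ((polyQ (Lᵀ * G * L) : MvPolynomial (Fin n) k) : PS) ∈ M ^ 3 := by
  have e : ((polyQ (Lᵀ * G * L) : MvPolynomial (Fin n) k) : PS) =
      ∑ l, ∑ j, C (G l j) * ((∑ i, C (L l i) * X i) * ∑ i, C (L j i) * X i) := by
    have key : ∀ (G : Matrix (Fin n) (Fin n) k) (x : Fin n → PS),
        ∑ l, ∑ j, C (G l j) * (x l * x j) = x ⬝ᵥ (G.map C) *ᵥ x := fun G x => by
      simp only [dotProduct, mulVec, Matrix.map_apply, Finset.mul_sum]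
      exact Finset.sum_congr rfl fun _ _ => Finset.sum_congr rfl fun _ _ => by ring
    rw [coe_polyQ, key, key, Matrix.map_mul, Matrix.map_mul, Matrix.transpose_map, ← mulVec_mulVec, ← mulVec_mulVec,
      dotProduct_mulVec, vecMul_transpose]
    rfl
  rw [e, ← Finset.sum_sub_distrib]
  refine Ideal.sum_mem _ fun l _ => ?_
  rw [← Finset.sum_sub_distrib]
  refine Ideal.sum_mem _ fun j _ => ?_
  rw [← mul_sub]
  refine Ideal.mul_mem_left _ _ ?_
  have hlin : ∀ j, (∑ i, C (L j i) * X i : PS) ∈ M := fun j =>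
    Ideal.sum_mem _ fun i _ => Ideal.mul_mem_left _ _ (X_mem_max i)
  rw [show ξ l * ξ j - (∑ i, C (L l i) * X i) * (∑ i, C (L j i) * X i) =
    (ξ l - ∑ i, C (L l i) * X i) * ξ j + (∑ i, C (L l i) * X i) * (ξ j - ∑ i, C (L j i) * X i) by ring]
  refine add_mem ?_ ?_
  · rw [pow_succ]; exact Ideal.mul_mem_mul (hL l) (hξ j)
  · rw [pow_succ']; exact Ideal.mul_mem_mul (hlin l) (hL j)

theorem isUnit_of_span {ξ : Fin n → PS} (L : Matrix (Fin n) (Fin n) k) (hL : ∀ l, ξ l - ∑ i, C (L l i) * X i ∈ M ^ 2)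
    (hspan : ∀ i, ∃ (c : k) (a : Fin n → k), X i - (C c + ∑ l, C (a l) * ξ l) ∈ M ^ 2) : IsUnit L.det := by
  classical
  choose c a ha using hspan
  refine Matrix.isUnit_det_of_left_inverse (B := Matrix.of a) ?_
  ext i j
  have h : C (c i) + ∑ q, C ((Matrix.of a * L) i q - if i = q then 1 else 0) * (X q : PS) ∈ M ^ 2 := by
    have e : C (c i) + ∑ q, C ((Matrix.of a * L) i q - if i = q then 1 else 0) * (X q : PS) =
        -(X i - (C (c i) + ∑ l, C (a i l) * ξ l)) - ∑ l, C (a i l) * (ξ l - ∑ q, C (L l q) * X q) := by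
      simp only [Matrix.mul_apply, Matrix.of_apply, map_sub, sub_mul, Finset.sum_sub_distrib, map_sum, map_mul,
        Finset.sum_mul, mul_sub, Finset.mul_sum, apply_ite (C (R := k) (σ := Fin n)), map_one, map_zero, ite_mul,
        one_mul, zero_mul, Finset.sum_ite_eq, Finset.mem_univ, if_true, mul_assoc]
      rw [Finset.sum_comm (f := fun x i_1 => C (a i i_1) * (C (L i_1 x) * X x))]
      ring
    rw [e]
    exact sub_mem (neg_mem (ha i)) (Ideal.sum_mem _ fun l _ => Ideal.mul_mem_left _ _ (hL l))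
  have := congrFun (lin_unique h).2 j
  rw [Pi.zero_apply, sub_eq_zero] at this
  rw [this, Matrix.one_apply]

theorem nd_of_polyQ_eq {G G' : Matrix (Fin n) (Fin n) k} (e : polyQ G = polyQ G') (h : ND G) : ND G' := by
  intro v h1 h2
  refine h v ?_ ?_
  · rw [← eval_polyQ, e, eval_polyQ]; exact h1
  · funext i
    rw [← eval_pderiv_polyQ, e, eval_pderiv_polyQ]
    exact congrFun h2 i

theorem polyQ_smul (c : k) (G : Matrix (Fin n) (Fin n) k) : polyQ (c • G) = MvPolynomial.C c * polyQ G := by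
  simp only [polyQ, Matrix.smul_apply, smul_eq_mul, map_mul, Finset.mul_sum, mul_assoc]

/-- Non-degeneracy only depends on the quotient ring. -/
theorem nd_of_equiv {Q0 Q1 : PS} {G0 G1 : Matrix (Fin n) (Fin n) k}
    (h0 : Q0 - ((polyQ G0 : MvPolynomial (Fin n) k) : PS) ∈ M ^ 3)
    (h1 : Q1 - ((polyQ G1 : MvPolynomial (Fin n) k) : PS) ∈ M ^ 3)
    (φ : (PS ⧸ Ideal.span {Q0}) ≃+* (PS ⧸ Ideal.span {Q1}))
    (hφ : ∀ c : k, φ (Ideal.Quotient.mk _ (C c)) = Ideal.Quotient.mk _ (C c)) (hnd : ND G0) : ND G1 := by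
  classical
  intro v hv1 hv2
  by_cases hn : n = 0
  · subst hn; exact funext fun i => i.elim0
  have hP2 : ∀ G : Matrix (Fin n) (Fin n) k, ((polyQ G : MvPolynomial (Fin n) k) : PS) ∈ M ^ 2 := fun G => by
    rw [coe_polyQ]
    refine Ideal.sum_mem _ fun l _ => Ideal.sum_mem _ fun j _ => Ideal.mul_mem_left _ _ ?_
    rw [pow_two]; exact Ideal.mul_mem_mul (X_mem_max l) (X_mem_max j)
  have hQ2 : ∀ {Q : PS} {G : Matrix (Fin n) (Fin n) k}, Q - ((polyQ G : MvPolynomial (Fin n) k) : PS) ∈ M ^ 3 → Q ∈ M ^ 2 :=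
    fun {Q G} hQ => by
      have := add_mem (Ideal.pow_le_pow_right (by norm_num : 2 ≤ 3) hQ) (hP2 G)
      rwa [sub_add_cancel] at this
  have hQ0 := hQ2 h0
  have hQ1 := hQ2 h1
  let π0 := Ideal.Quotient.mk (Ideal.span {Q0})
  let π1 := Ideal.Quotient.mk (Ideal.span {Q1})
  have hle : Ideal.span {Q1} ≤ M ^ 2 := (Ideal.span_singleton_le_iff_mem _).2 hQ1
  have hle1 : Ideal.span {Q1} ≤ M := hle.trans (Ideal.pow_le_self two_ne_zero)
  have hle0 : Ideal.span {Q0} ≤ M :=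
    ((Ideal.span_singleton_le_iff_mem _).2 hQ0).trans (Ideal.pow_le_self two_ne_zero)
  haveI : (Ideal.map π0 M).IsMaximal := (Ideal.map_eq_top_or_isMaximal_of_surjective π0 Ideal.Quotient.mk_surjective
    inferInstance).resolve_left fun h => (maximalIdeal.isMaximal PS).ne_top (by
      have := congrArg (Ideal.comap π0) h
      rwa [Ideal.comap_map_of_surjective _ Ideal.Quotient.mk_surjective, ← RingHom.ker, Ideal.mk_ker,
        sup_eq_left.2 hle0, Ideal.comap_top] at this)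
  let ψ : PS →+* PS ⧸ Ideal.span {Q1} := φ.toRingHom.comp π0
  have hψs : Function.Surjective ψ := φ.surjective.comp Ideal.Quotient.mk_surjective
  have hψM : Ideal.map ψ M = Ideal.map π1 M := by
    haveI : Nontrivial (PS ⧸ Ideal.span {Q1}) := Ideal.Quotient.nontrivial_iff.2 fun h =>
      (maximalIdeal.isMaximal PS).ne_top (top_le_iff.1 (h ▸ hle1))
    haveI : IsLocalRing (PS ⧸ Ideal.span {Q1}) := IsLocalRing.of_surjective' π1 Ideal.Quotient.mk_surjective
    rw [IsLocalRing.map_maximalIdeal_of_surjective π1 Ideal.Quotient.mk_surjective,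
      IsLocalRing.map_maximalIdeal_of_surjective ψ hψs]
  have hmem : ∀ {s : ℕ} {h : PS}, h ∈ M ^ s → ∀ h', π1 h' = ψ h → h' ∈ M ^ s ⊔ Ideal.span {Q1} := by
    intro s h hh h' he
    rw [← Ideal.mem_quotient_iff_mem_sup, he, Ideal.map_pow, ← hψM, ← Ideal.map_pow]
    exact Ideal.mem_map_of_mem _ hh
  choose y hy using fun i : Fin n => Ideal.Quotient.mk_surjective (ψ (X i))
  have hy' : ∀ i, π1 (y i) = ψ (X i) := hy
  have hyM : ∀ i, y i ∈ M := fun i => by
    have := hmem (s := 1) (by rw [pow_one]; exact X_mem_max i) (y i) (hy i)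
    rw [pow_one, sup_eq_left.2 hle1] at this
    exact this
  choose L hL using fun i => exists_linPart (hyM i)
  have hψC : ∀ c, ψ (C c) = π1 (C c) := hφ
  have hLu : IsUnit (Matrix.of L).det := by
    refine isUnit_of_span (ξ := y) (Matrix.of L) hL fun i => ?_
    obtain ⟨h, hh⟩ := hψs (π1 (X i))
    obtain ⟨a, ha⟩ := exists_linPart (h := h - C (constantCoeff h)) ((mem_max_iff _).2 (by simp))
    refine ⟨constantCoeff h, a, ?_⟩
    have e : π1 (X i - (C (constantCoeff h) + ∑ l, C (a l) * y l)) = ψ (h - C (constantCoeff h) - ∑ l, C (a l) * X l) := by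
      simp only [map_sub, map_add, map_sum, map_mul, hψC, hh, hy', sub_sub]
    have := hmem ha _ e
    rwa [sup_eq_left.2 hle] at this
  have e : π1 (∑ l, ∑ j, C (G0 l j) * (y l * y j)) = ψ ((polyQ G0 : MvPolynomial (Fin n) k) : PS) := by
    rw [coe_polyQ]
    simp only [map_sum, map_mul, hψC, hy']
  have hψQ : ψ Q0 = 0 := by
    show φ (π0 Q0) = 0
    rw [show π0 Q0 = 0 from Ideal.Quotient.eq_zero_iff_mem.2 (Ideal.mem_span_singleton_self _), map_zero]
  have h3 : (∑ l, ∑ j, C (G0 l j) * (y l * y j)) ∈ M ^ 3 ⊔ Ideal.span {Q1} := by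
    refine hmem (h := ((polyQ G0 : MvPolynomial (Fin n) k) : PS) - Q0) ?_ _ ?_
    · rw [← neg_sub]; exact neg_mem h0
    · rw [map_sub, hψQ, sub_zero, e]
  obtain ⟨r, hr, t, ht, hrt⟩ := Submodule.mem_sup.1 h3
  obtain ⟨c, rfl⟩ := Ideal.mem_span_singleton'.1 ht
  have hfin : ((polyQ ((Matrix.of L)ᵀ * G0 * Matrix.of L) - polyQ (constantCoeff c • G1) : MvPolynomial (Fin n) k) : PS) ∈ M ^ 3 := by
    have hq := quadForm_congr (Matrix.of L) G0 hyM hL
    rw [← MvPolynomial.coeToMvPowerSeries.ringHom_apply, map_sub, MvPolynomial.coeToMvPowerSeries.ringHom_apply, MvPolynomial.coeToMvPowerSeries.ringHom_apply, polyQ_smul, MvPolynomial.coe_mul, MvPolynomial.coe_C]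
    rw [show ((polyQ ((Matrix.of L)ᵀ * G0 * Matrix.of L) : MvPolynomial (Fin n) k) : PS) - C (constantCoeff c) * ((polyQ G1 : MvPolynomial (Fin n) k) : PS) =
      -((∑ l, ∑ j, C (G0 l j) * (y l * y j)) - ((polyQ ((Matrix.of L)ᵀ * G0 * Matrix.of L) : MvPolynomial (Fin n) k) : PS)) +
        r + ((c - C (constantCoeff c)) * Q1 + C (constantCoeff c) * (Q1 - ((polyQ G1 : MvPolynomial (Fin n) k) : PS))) by
      rw [← hrt]; ring]
    refine add_mem (add_mem (neg_mem hq) hr) (add_mem ?_ (Ideal.mul_mem_left _ _ h1))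
    rw [pow_succ']
    exact Ideal.mul_mem_mul ((mem_max_iff _).2 (by simp)) hQ1
  have heq := sub_eq_zero.1 (quad_unique ((polyQ_isHomogeneous _).sub (polyQ_isHomogeneous _)) hfin)
  have h5 := nd_of_polyQ_eq heq (hnd.congr hLu)
  by_cases hc : constantCoeff c = 0
  · obtain ⟨n', rfl⟩ : ∃ n', n = n' + 1 := ⟨n - 1, by omega⟩
    have := congrFun (h5 (Pi.single 0 1) (by rw [hc, zero_smul, zero_mulVec, dotProduct_zero])
      (by rw [hc, zero_smul, transpose_zero, add_zero, zero_mulVec])) 0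
    simp at this
  · refine h5 v ?_ ?_
    · rw [smul_mulVec, dotProduct_smul, hv1, smul_zero]
    · rw [Matrix.transpose_smul, ← smul_add, smul_mulVec, hv2, smul_zero]

variable {A : Type u} [CommRing A] [Algebra k A]

theorem psi_sub_mem (p : A →ₐ[k] k) (ψ : A →ₐ[k] MvPowerSeries (Fin n) k)
    (h1 : ∀ (a : A) (i : ℕ), ψ a ∈ M ^ i ↔ a ∈ RingHom.ker p.toRingHom ^ i) (a : A) : ψ a - C (p a) ∈ M := by
  have := (h1 (a - algebraMap k A (p a)) 1).2 (by rw [pow_one]; simp [RingHom.mem_ker])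
  rw [pow_one, map_sub, AlgHom.commutes] at this
  exact this

theorem exists_lin (z : Fin n → A) (b : Basis (Fin n) A Ω[A⁄k]) (hb : ∀ l, b l = D k A (z l)) (p : A →ₐ[k] k)
    (ψ : A →ₐ[k] MvPowerSeries (Fin n) k) (h1 : ∀ (a : A) (i : ℕ), ψ a ∈ M ^ i ↔ a ∈ RingHom.ker p.toRingHom ^ i)
    (h2 : ∀ (g : PS) (i : ℕ), ∃ a, ψ a - g ∈ M ^ i) : ∃ L : Matrix (Fin n) (Fin n) k, IsUnit L.det ∧
    ∀ l, (ψ (z l) - C (p (z l))) - ∑ i, C (L l i) * X i ∈ M ^ 2 := by
  choose L hL using fun l => exists_linPart (psi_sub_mem p ψ h1 (z l))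
  refine ⟨Matrix.of L, isUnit_of_span (ξ := fun l => ψ (z l) - C (p (z l))) (Matrix.of L) hL fun i => ?_, hL⟩
  obtain ⟨a, ha⟩ := h2 (X i) 2
  refine ⟨p a, fun l => p (pd b l a), ?_⟩
  haveI := Module.Finite.of_basis b
  haveI : Module.Free A Ω[A⁄k] := Module.Free.of_basis b
  have hs : LefDualLib.Sing p (a - algebraMap k A (p a) - ∑ l, p (pd b l a) • (z l - algebraMap k A (p (z l)))) := by
    refine (sing_iff_pd b p _).2 ⟨by simp [map_sum], fun i => ?_⟩
    simp only [map_sub, map_sum, Derivation.map_smul, Derivation.map_algebraMap, sub_zero, pd_z z b hb, smul_ite,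
      smul_zero, apply_ite p, map_smul, map_one, map_zero, Finset.sum_ite_eq', Finset.mem_univ, if_true, smul_eq_mul,
      mul_one, sub_self]
  have := (h1 _ 2).2 (LefDualLib.mem_sq_of_sing p hs)
  simp only [map_sub, AlgHom.commutes, map_sum, map_mul, Algebra.smul_def, MvPowerSeries.algebraMap_apply,
    Algebra.algebraMap_self, RingHom.id_apply] at this
  rw [show X i - (C (p a) + ∑ l, C (p (pd b l a)) * (ψ (z l) - C (p (z l)))) =
    -(ψ a - X i) + (ψ a - C (p a) - ∑ l, C (p (pd b l a)) * (ψ (z l) - C (p (z l)))) by ring]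
  exact add_mem (neg_mem ha) this

theorem psi_taylor (z : Fin n → A) (b : Basis (Fin n) A Ω[A⁄k]) (p : A →ₐ[k] k)
    (ψ : A →ₐ[k] MvPowerSeries (Fin n) k) (h1 : ∀ (a : A) (i : ℕ), ψ a ∈ M ^ i ↔ a ∈ RingHom.ker p.toRingHom ^ i)
    {e : A ⊗[k] A} (he : ev p p e = 1) {a : A} {g : Matrix (Fin n) (Fin n) (A ⊗[k] A)}
    (hg : IsTaylor z b e a g) (ha : p a = 0) (hda : ∀ l, p (pd b l a) = 0) :
    ψ a - ∑ l, ∑ j, C (ev p p (g l j)) * ((ψ (z l) - C (p (z l))) * (ψ (z j) - C (p (z j)))) ∈ M ^ 3 := by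
  let Θ : A ⊗[k] A →ₐ[k] PS :=
    Algebra.TensorProduct.lift ((Algebra.ofId k PS).comp p) ψ fun _ _ => Commute.all _ _
  have hΘt : ∀ a c, Θ (a ⊗ₜ c) = C (p a) * ψ c := fun a c => Algebra.TensorProduct.lift_tmul _ _ _ _ _
  have hΘ : ∀ x, Θ x - C (ev p p x) ∈ M := by
    intro x
    induction x using TensorProduct.induction_on with
    | zero => simp
    | add x y hx hy =>
      rw [map_add, map_add, map_add, add_sub_add_comm]; exact add_mem hx hy
    | tmul a c =>
      rw [hΘt, ev_tmul, map_mul, ← mul_sub]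
      exact Ideal.mul_mem_left _ _ (psi_sub_mem p ψ h1 c)
  let ξ : Fin n → PS := fun l => ψ (z l) - C (p (z l))
  have hξ : ∀ l, Θ (du z l) = ξ l := fun l => by simp [du, hΘt, ξ]
  have h := congrArg Θ hg
  simp only [map_mul, map_sub, map_add, map_sum, hΘt, map_one, map_zero, one_mul, mul_one, ha, hda, mul_zero, zero_mul,
    sub_zero, Finset.sum_const_zero, zero_add, hξ] at h
  have hξ2 : ∀ l j, ξ l * ξ j ∈ M ^ 2 := fun l j => by
    rw [pow_two]; exact Ideal.mul_mem_mul (psi_sub_mem p ψ h1 _) (psi_sub_mem p ψ h1 _)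
  have h1e : 1 - Θ e * Θ e ∈ M := by
    have := hΘ (e * e)
    rw [map_mul, map_mul, he, one_mul, map_one] at this
    rw [← neg_sub]; exact neg_mem this
  have haM : ψ a ∈ M := by simpa [ha] using psi_sub_mem p ψ h1 a
  have h2' : ψ a ∈ M ^ 2 := by
    rw [show ψ a = (1 - Θ e * Θ e) * ψ a + Θ e * Θ e * ψ a by ring, h]
    refine add_mem ?_ (Ideal.sum_mem _ fun l _ => Ideal.sum_mem _ fun j _ => ?_)
    · rw [pow_two]; exact Ideal.mul_mem_mul h1e haM
    · rw [mul_assoc]; exact Ideal.mul_mem_left _ _ (hξ2 l j)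
  have e2 : ψ a - ∑ l, ∑ j, C (ev p p (g l j)) * (ξ l * ξ j) =
      (1 - Θ e * Θ e) * ψ a + ∑ l, ∑ j, (Θ (g l j) - C (ev p p (g l j))) * (ξ l * ξ j) := by
    simp only [sub_mul (Θ _) (C _), Finset.sum_sub_distrib, ← mul_assoc, ← h]
    ring
  show ψ a - ∑ l, ∑ j, C (ev p p (g l j)) * (ξ l * ξ j) ∈ M ^ 3
  rw [e2, pow_succ']
  exact add_mem (Ideal.mul_mem_mul h1e h2') (Ideal.sum_mem _ fun l _ => Ideal.sum_mem _ fun j _ =>
    Ideal.mul_mem_mul (hΘ _) (hξ2 l j))

end Groth.Agent.OdpLib
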