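import Groth.Agent.OdpLib.Jet
import Groth.Agent.LefDualLib.Cut
import Groth.Agent.OqsLib.Point

/-!
# Coordinates near a point, and the quadratic part in them
-/

set_option autoImplicit false
set_option maxHeartbeats 600000
set_option backward.isDefEq.respectTransparency false
set_option backward.isDefEq.respectTransparency.types false
set_option linter.style.haveILetI false
universe u
open TensorProduct KaehlerDifferential Module IsLocalRing MvPowerSeries Matrix

noncomputable section

namespace Groth.Agent.OdpLib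

variable {k : Type u} [Field k] {A : Type u} [CommRing A] [Algebra k A] [Algebra.Smooth k A] {m n : ℕ}

/-- Functions whose differentials form a basis near a point. -/
theorem exists_local_coords (x : Fin m → A)
    (hx : Function.Surjective (MvPolynomial.aeval x : MvPolynomial (Fin m) k →ₐ[k] A))
    (hdim : ∀ P ∈ minimalPrimes A, ringKrullDim (A ⧸ P) = n) (p : A →ₐ[k] k)
    (ψ : A →ₐ[k] MvPowerSeries (Fin n) k)
    (h1 : ∀ (a : A) (i : ℕ), ψ a ∈ maximalIdeal (MvPowerSeries (Fin n) k) ^ i ↔ a ∈ RingHom.ker p.toRingHom ^ i)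
    (h2 : ∀ (g : MvPowerSeries (Fin n) k) (i : ℕ), ∃ a, ψ a - g ∈ maximalIdeal (MvPowerSeries (Fin n) k) ^ i) :
    ∃ g : A, p g ≠ 0 ∧ ∃ (z : Fin n → Localization.Away g)
      (b : Basis (Fin n) (Localization.Away g) Ω[Localization.Away g⁄k]),
        ∀ l, b l = D k (Localization.Away g) (z l) := by
  classical
  haveI : (RingHom.ker p).IsPrime := RingHom.ker_isPrime _
  obtain ⟨f, hf, -, ⟨b⟩⟩ := LefDualLib.exists_chart_basis x hx hdim (RingHom.ker p)
  let T := Localization.Away f
  have hfu : IsUnit (p f) := isUnit_iff_ne_zero.2 fun h => hf h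
  let pT : T →ₐ[k] k := IsLocalization.Away.liftAlgHom (S := T) f (f := p) hfu
  have hpT : ∀ a, pT (algebraMap A T a) = p a := fun a => IsLocalization.Away.lift_eq f hfu a
  choose a ha using fun l => h2 (X l) 2
  let J : Matrix (Fin n) (Fin n) T := fun i l => b.repr (D k T (algebraMap A T (a i))) l
  have hbase : IsBaseChange T (KaehlerDifferential.map k k A T) :=
    KaehlerDifferential.isBaseChange_of_formallyEtale k A T
  have hdet : pT J.det ≠ 0 := by
    intro h0
    rw [AlgHom.map_det] at h0
    obtain ⟨c, hc, hcJ⟩ := exists_vecMul_eq_zero_iff.2 h0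
    let w : A := ∑ i, c i • (a i - algebraMap k A (p (a i)))
    have hs : LefDualLib.Sing p w := by
      refine ⟨by simp [w, map_sum], fun ψ' => ?_⟩
      let ψT : Ω[T⁄k] →ₗ[T] T := hbase.lift ((Algebra.linearMap A T).comp ψ')
      have hψT : ∀ i, p (ψ' (D k A (a i))) = ∑ l, pT (J i l) * pT (ψT (b l)) := fun i => by
        have e1 : ψT (D k T (algebraMap A T (a i))) = algebraMap A T (ψ' (D k A (a i))) := by
          rw [← KaehlerDifferential.map_D k k A T]
          exact hbase.lift_eq _ _
        rw [← hpT, ← e1, ← b.sum_repr (D k T (algebraMap A T (a i))), map_sum, map_sum]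
        exact Finset.sum_congr rfl fun l _ => by rw [map_smul, smul_eq_mul, map_mul]
      simp only [w, map_sum, Derivation.map_smul, map_sub, Derivation.map_algebraMap, sub_zero,
        LinearMap.map_smul_of_tower, map_smul, hψT, smul_eq_mul, Finset.mul_sum]
      rw [Finset.sum_comm]
      refine Finset.sum_eq_zero fun l _ => ?_
      simp only [← mul_assoc, ← Finset.sum_mul]
      exact mul_eq_zero_of_left (congrFun hcJ l) _
    have hw := (h1 w 2).2 (LefDualLib.mem_sq_of_sing p hs)
    have hlin : C 0 + ∑ i, C (c i) * (X i : MvPowerSeries (Fin n) k) -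
        C (∑ i, c i * p (a i)) ∈ maximalIdeal (MvPowerSeries (Fin n) k) ^ 2 := by
      have e : C 0 + ∑ i, C (c i) * (X i : MvPowerSeries (Fin n) k) - C (∑ i, c i * p (a i)) =
          ψ w - ∑ i, C (c i) * (ψ (a i) - X i) := by
        simp only [w, map_sum, map_smul, map_sub, AlgHom.commutes, Algebra.smul_def, MvPowerSeries.algebraMap_apply,
          Algebra.algebraMap_self, RingHom.id_apply, map_zero, zero_add, map_mul, mul_sub, Finset.sum_sub_distrib]
        ring
      rw [e]
      exact sub_mem hw (Ideal.sum_mem _ fun i _ => Ideal.mul_mem_left _ _ (ha i))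
    have := (lin_unique (c := -(∑ i, c i * p (a i))) (a := c) (by
      convert hlin using 1
      rw [map_neg, map_zero]; ring)).2
    exact hc this
  let a₁ : A := (IsLocalization.Away.sec f J.det).1
  obtain ⟨N, hN⟩ : ∃ N, J.det * algebraMap A T f ^ N = algebraMap A T a₁ :=
    ⟨(IsLocalization.Away.sec f J.det).2, by rw [← map_pow]; exact IsLocalization.Away.sec_spec f J.det⟩
  refine ⟨f * a₁, ?_, ?_⟩
  · rw [map_mul]
    refine mul_ne_zero hfu.ne_zero ?_
    rw [← hpT a₁, ← hN, map_mul, map_pow, hpT]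
    exact mul_ne_zero hdet (pow_ne_zero _ hfu.ne_zero)
  let U := Localization.Away (f * a₁)
  letI : Algebra T U := (IsLocalization.Away.awayToAwayRight (S := T) (P := U) f a₁).toAlgebra
  haveI : IsScalarTower A T U := IsScalarTower.of_algebraMap_eq fun y =>
    (IsLocalization.Away.awayToAwayRight_eq (S := T) (P := U) f a₁ y).symm
  haveI : IsScalarTower k T U := IsScalarTower.of_algebraMap_eq fun y => by
    rw [IsScalarTower.algebraMap_apply k A T, ← IsScalarTower.algebraMap_apply A T U, ← IsScalarTower.algebraMap_apply]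
  have hTU : IsBaseChange U (KaehlerDifferential.map k k T U) := by
    refine IsBaseChange.of_comp hbase ?_
    have e : ((KaehlerDifferential.map k k T U).restrictScalars A).comp (KaehlerDifferential.map k k A T) =
        KaehlerDifferential.map k k A U := by
      refine LinearMap.ext_on (KaehlerDifferential.span_range_derivation k A) ?_
      rintro _ ⟨y, rfl⟩
      simp [← IsScalarTower.algebraMap_apply]
    rw [e]
    exact KaehlerDifferential.isBaseChange_of_formallyEtale k A U
  let b' : Basis (Fin n) U Ω[U⁄k] := (b.baseChange U).map hTU.equiv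
  have hb' : ∀ l, b' l = KaehlerDifferential.map k k T U (b l) := fun l => by
    simp only [b', Basis.map_apply, Basis.baseChange_apply]
    exact (hTU.equiv_tmul 1 (b l)).trans (one_smul _ _)
  let z : Fin n → U := fun i => algebraMap A U (a i)
  have hz : ∀ i, D k U (z i) = ∑ l, algebraMap T U (J i l) • b' l := fun i => by
    show D k U (algebraMap A U (a i)) = _
    rw [IsScalarTower.algebraMap_apply A T U, ← KaehlerDifferential.map_D k k T U]
    conv_lhs => rw [← b.sum_repr (D k T (algebraMap A T (a i)))]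
    rw [map_sum]
    exact Finset.sum_congr rfl fun l _ => by rw [map_smul, hb', algebraMap_smul]
  have hu : IsUnit (b'.det fun i => D k U (z i)) := by
    rw [b'.det_apply, show b'.toMatrix (fun i => D k U (z i)) = ((algebraMap T U).mapMatrix J)ᵀ from
      Matrix.ext fun l i => by
        rw [Basis.toMatrix_apply, hz, b'.repr_sum_self]; rfl,
      det_transpose, ← RingHom.map_det]
    have h := (IsLocalization.Away.algebraMap_isUnit (S := U) (f * a₁))
    rw [map_mul, IsScalarTower.algebraMap_apply A T U a₁, ← hN, map_mul] at h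
    exact isUnit_of_mul_isUnit_left (isUnit_of_mul_isUnit_right h)
  obtain ⟨hli, hsp⟩ := (b'.is_basis_iff_det).2 hu
  exact ⟨z, Basis.mk hli hsp.ge, fun l => Basis.mk_apply _ _ l⟩

variable {T : Type u} [CommRing T] [Algebra k T] [Algebra A T] [IsScalarTower k A T]

/-- Extending a point and its formal coordinates to an open piece. -/
theorem exists_extend (g : A) [IsLocalization.Away g T] (p : A →ₐ[k] k) (hg : p g ≠ 0) :
    ∃ pT : T →ₐ[k] k, (∀ a, pT (algebraMap A T a) = p a) ∧
      (∀ a, LefDualLib.Sing p a → LefDualLib.Sing pT (algebraMap A T a)) ∧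
      ∀ ψ : A →ₐ[k] MvPowerSeries (Fin n) k,
        (∀ (a : A) (i : ℕ), ψ a ∈ maximalIdeal (MvPowerSeries (Fin n) k) ^ i ↔ a ∈ RingHom.ker p.toRingHom ^ i) →
        (∀ (h : MvPowerSeries (Fin n) k) (i : ℕ), ∃ a, ψ a - h ∈ maximalIdeal (MvPowerSeries (Fin n) k) ^ i) →
        ∃ ψT : T →ₐ[k] MvPowerSeries (Fin n) k, (∀ a, ψT (algebraMap A T a) = ψ a) ∧
          (∀ (a : T) (i : ℕ), ψT a ∈ maximalIdeal (MvPowerSeries (Fin n) k) ^ i ↔ a ∈ RingHom.ker pT.toRingHom ^ i) ∧
          ∀ (h : MvPowerSeries (Fin n) k) (i : ℕ), ∃ a, ψT a - h ∈ maximalIdeal (MvPowerSeries (Fin n) k) ^ i := by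
  let pT : T →ₐ[k] k := IsLocalization.Away.liftAlgHom (S := T) g (f := p) (isUnit_iff_ne_zero.2 hg)
  have hpT : ∀ a, pT (algebraMap A T a) = p a := fun a => IsLocalization.Away.lift_eq g (isUnit_iff_ne_zero.2 hg) a
  have hker : RingHom.ker pT.toRingHom = (RingHom.ker p.toRingHom).map (algebraMap A T) := by
    rw [← IsLocalization.map_under (Submonoid.powers g) T (RingHom.ker pT.toRingHom)]
    congr 1
    exact Ideal.ext fun a => by
      show pT (algebraMap A T a) = 0 ↔ p a = 0
      rw [hpT]
  refine ⟨pT, hpT, fun a ha => LefDualLib.sing_of_mem_sq pT ?_, fun ψ h1 h2 => ?_⟩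
  · show algebraMap A T a ∈ RingHom.ker pT.toRingHom ^ 2
    rw [hker, ← Ideal.map_pow]
    exact Ideal.mem_map_of_mem _ (LefDualLib.mem_sq_of_sing p ha)
  · have hu : IsUnit (ψ g) := by
      by_contra hu
      refine hg ?_
      have := (h1 g 1).1 (by rw [pow_one]; exact hu)
      rwa [pow_one] at this
    let ψT : T →ₐ[k] MvPowerSeries (Fin n) k := IsLocalization.Away.liftAlgHom (S := T) g (f := ψ) hu
    have hψT : ∀ a, ψT (algebraMap A T a) = ψ a := fun a => IsLocalization.Away.lift_eq g hu a
    refine ⟨ψT, hψT, fun y i => ?_, fun h i => ?_⟩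
    · obtain ⟨⟨a, s⟩, hy⟩ := IsLocalization.surj (Submonoid.powers g) y
      rw [← Ideal.mul_unit_mem_iff_mem _ ((IsLocalization.map_units T s).map ψT), ← map_mul, hy, hψT, h1,
        ← Ideal.mul_unit_mem_iff_mem (RingHom.ker pT.toRingHom ^ i) (IsLocalization.map_units T s), hy, hker,
        ← Ideal.map_pow, IsLocalization.algebraMap_mem_map_algebraMap_iff (Submonoid.powers g)]
      refine ⟨fun h => ⟨1, one_mem _, by rwa [one_mul]⟩, fun ⟨_, ⟨N, rfl⟩, h⟩ => ?_⟩
      rw [← h1, map_mul, map_pow, Ideal.unit_mul_mem_iff_mem _ (hu.pow N)] at h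
      exact (h1 a i).1 h
    · obtain ⟨a, ha⟩ := h2 h i
      exact ⟨algebraMap A T a, by rwa [hψT]⟩

/-- The quadratic part of the equation in formal coordinates. -/
theorem exists_jet {S : Type u} [CommRing S] [Algebra k S] (z : Fin n → S) (b : Basis (Fin n) S Ω[S⁄k])
    (hb : ∀ l, b l = D k S (z l)) (p : S →ₐ[k] k) (ψ : S →ₐ[k] MvPowerSeries (Fin n) k)
    (h1 : ∀ (a : S) (i : ℕ), ψ a ∈ maximalIdeal (MvPowerSeries (Fin n) k) ^ i ↔ a ∈ RingHom.ker p.toRingHom ^ i)
    (h2 : ∀ (g : MvPowerSeries (Fin n) k) (i : ℕ), ∃ a, ψ a - g ∈ maximalIdeal (MvPowerSeries (Fin n) k) ^ i)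
    {e : S ⊗[k] S} (he : ev p p e = 1) {a : S} {g : Matrix (Fin n) (Fin n) (S ⊗[k] S)} (hg : IsTaylor z b e a g)
    (hs : LefDualLib.Sing p a) :
    ∃ L : Matrix (Fin n) (Fin n) k, IsUnit L.det ∧
      ψ a - ((polyQ (Lᵀ * g.map (ev p p) * L) : MvPolynomial (Fin n) k) : MvPowerSeries (Fin n) k) ∈
        maximalIdeal (MvPowerSeries (Fin n) k) ^ 3 := by
  obtain ⟨L, hL, hLz⟩ := exists_lin z b hb p ψ h1 h2
  refine ⟨L, hL, ?_⟩
  have hs' := (sing_iff_pd b p a).1 hs
  rw [← sub_add_sub_cancel _ (∑ l, ∑ j, C (ev p p (g l j)) * ((ψ (z l) - C (p (z l))) * (ψ (z j) - C (p (z j)))))]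
  exact add_mem (psi_taylor z b p ψ h1 he hg hs'.1 hs'.2)
    (quadForm_congr L (g.map (ev p p)) (fun l => psi_sub_mem p ψ h1 (z l)) hLz)

theorem mem_pow_of_coeff (d : ℕ) : ∀ f : MvPowerSeries (Fin n) k,
    (∀ e : Fin n →₀ ℕ, e.degree < d → coeff e f = 0) → f ∈ maximalIdeal (MvPowerSeries (Fin n) k) ^ d := by
  classical
  induction d with
  | zero => intro f _; rw [pow_zero, Ideal.one_eq_top]; trivial
  | succ d ih =>
    intro f hf
    let h : Fin n → MvPowerSeries (Fin n) k := fun i e =>
      if (e + Finsupp.single i 1).support.min = (i : WithTop (Fin n)) then coeff (e + Finsupp.single i 1) f else 0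
    have hfh : f = ∑ i, X i * h i := by
      ext d
      rw [map_sum]
      simp only [X, coeff_monomial_mul, one_mul]
      by_cases hd : d = 0
      · subst hd
        rw [hf 0 (by simp), Finset.sum_eq_zero]
        intro i _
        rw [if_neg]
        intro hle
        simpa using hle i
      obtain ⟨i₀, hi₀⟩ := Finset.min_of_nonempty (Finsupp.support_nonempty_iff.mpr hd)
      have hle : Finsupp.single i₀ 1 ≤ d := Finsupp.single_le_iff.mpr
        (Nat.one_le_iff_ne_zero.mpr (Finsupp.mem_support_iff.mp (Finset.mem_of_min hi₀)))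
      rw [Finset.sum_eq_single i₀]
      · rw [if_pos hle]
        show _ = if _ then _ else _
        rw [tsub_add_cancel_of_le hle, if_pos hi₀]
      · intro i _ hi
        split_ifs with hle'
        · change (if _ then _ else (0 : k)) = 0
          rw [tsub_add_cancel_of_le hle', if_neg]
          rw [hi₀]
          exact fun he => hi (WithTop.coe_injective he).symm
        · rfl
      · simp
    rw [hfh, pow_succ']
    refine Ideal.sum_mem _ fun i _ => Ideal.mul_mem_mul (X_mem_max i) (ih _ fun e he => ?_)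
    show (if _ then _ else (0 : k)) = 0
    split_ifs
    · exact hf _ (by rw [map_add, Finsupp.degree_single]; omega)
    · rfl

theorem exists_matrix_of_homogeneous (P : MvPolynomial (Fin n) k) (hP : P.IsHomogeneous 2) :
    ∃ G : Matrix (Fin n) (Fin n) k, polyQ G = P := by
  classical
  suffices h : ∀ s : Finset (Fin n →₀ ℕ), (∀ e ∈ s, e.degree = 2) →
      ∃ G : Matrix (Fin n) (Fin n) k, polyQ G = ∑ e ∈ s, MvPolynomial.monomial e (P.coeff e) by
    obtain ⟨G, hG⟩ := h P.support fun e he => by
      by_contra hne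
      exact MvPolynomial.mem_support_iff.1 he (hP.coeff_eq_zero hne)
    exact ⟨G, hG.trans (MvPolynomial.support_sum_monomial_coeff P)⟩
  intro s
  induction s using Finset.induction_on with
  | empty => exact fun _ => ⟨0, by simp [polyQ]⟩
  | insert e s he ih =>
    intro hs
    obtain ⟨G, hG⟩ := ih fun e' he' => hs e' (Finset.mem_insert_of_mem he')
    have hd := hs e (Finset.mem_insert_self e s)
    obtain ⟨l, hl⟩ : ∃ l, e l ≠ 0 := by
      by_contra! h
      rw [show e = 0 from Finsupp.ext h] at hd
      simp at hd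
    have hle : Finsupp.single l 1 ≤ e := Finsupp.single_le_iff.mpr (Nat.one_le_iff_ne_zero.mpr hl)
    have hd' : (e - Finsupp.single l 1).degree = 1 := by
      have := congrArg Finsupp.degree (tsub_add_cancel_of_le hle)
      rw [map_add, Finsupp.degree_single] at this
      omega
    obtain ⟨j, hj⟩ : ∃ j, e - Finsupp.single l 1 = Finsupp.single j 1 := by
      obtain ⟨j, hj⟩ := (Finsupp.range_single_one (σ := Fin n)).ge hd'
      exact ⟨j, hj.symm⟩
    have he2 : e = Finsupp.single j 1 + Finsupp.single l 1 := by rw [← hj, tsub_add_cancel_of_le hle]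
    refine ⟨G + Matrix.single l j (P.coeff e), ?_⟩
    rw [Finset.sum_insert he, ← hG]
    conv_rhs => rw [he2]
    simp only [polyQ, Matrix.add_apply, map_add, add_mul, Finset.sum_add_distrib, Matrix.single_apply,
      apply_ite (MvPolynomial.C (R := k) (σ := Fin n)), map_zero, ite_mul, zero_mul, ite_and, Finset.sum_ite_irrel,
      Finset.sum_const_zero, Finset.sum_ite_eq, Finset.mem_univ, if_true]
    rw [add_comm]
    congr 1
    rw [MvPolynomial.X, MvPolynomial.X, MvPolynomial.monomial_mul, MvPolynomial.C_mul_monomial, ← he2]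
    simp [he2, add_comm]

end Groth.Agent.OdpLib
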