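import Groth.Agent.OdpLib.Sec
import Groth.Agent.LefDualLib.Open

/-!
# Exactly one ordinary double point is open in the dual variety
-/

set_option autoImplicit false
set_option maxHeartbeats 1000000
set_option backward.isDefEq.respectTransparency false
set_option backward.isDefEq.respectTransparency.types false
set_option linter.style.haveILetI false
universe u
open CategoryTheory CategoryTheory.Limits AlgebraicGeometry TopologicalSpace IsLocalRing KaehlerDifferential Module Matrix TensorProduct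
open Groth.Agent.AmpleEmb Groth.Agent.BertiniProjLib Groth.Agent.LefDualLib

noncomputable section

namespace Groth.Agent.OdpLib

variable {k : Type u} [Field k]

section
variable {A : Type u} [CommRing A] [Algebra k A] {n : ℕ} (z : Fin n → A) (b : Basis (Fin n) A Ω[A⁄k])

theorem isTaylor_sum {N : ℕ} {e : A ⊗[k] A} (a : Fin N → A) (g : Fin N → Matrix (Fin n) (Fin n) (A ⊗[k] A))
    (hg : ∀ i, IsTaylor z b e (a i) (g i)) (c : Fin N → k) :
    IsTaylor z b e (∑ i, c i • a i) (∑ i, c i • g i) := by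
  classical
  suffices h : ∀ S : Finset (Fin N), IsTaylor z b e (∑ i ∈ S, c i • a i) (∑ i ∈ S, c i • g i) from h Finset.univ
  intro S
  induction S using Finset.induction_on with
  | empty => simp [IsTaylor]
  | insert i S hi ih =>
    rw [Finset.sum_insert hi, Finset.sum_insert hi]
    have h := hg i
    unfold IsTaylor at *
    simp only [map_add, Derivation.map_smul, TensorProduct.tmul_add, TensorProduct.add_tmul, TensorProduct.tmul_smul,
      ← TensorProduct.smul_tmul', Matrix.add_apply, Matrix.smul_apply, mul_add, add_mul, mul_sub, mul_smul_comm,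
      smul_mul_assoc, Finset.sum_add_distrib, ← Finset.smul_sum, ← smul_sub] at h ih ⊢
    rw [eq_add_of_sub_eq h, eq_add_of_sub_eq ih]
    simp only [smul_add]
    abel

theorem ev_polar_sum {N : ℕ} (g : Fin N → Matrix (Fin n) (Fin n) (A ⊗[k] A)) (c : Fin N → k) (p p' : A →ₐ[k] k) :
    (polar z b (∑ i, c i • g i)).map (ev p p') = ∑ i, c i • (polar z b (g i)).map (ev p p') := by
  ext l j
  simp only [polar, Matrix.map_apply, Matrix.sum_apply, Matrix.smul_apply, map_sum, map_smul, map_add, map_mul,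
    Finset.sum_mul, smul_mul_assoc, smul_eq_mul, mul_add, Finset.mul_sum, Finset.sum_add_distrib]
  rw [Finset.sum_comm (f := fun l i => c i * (ev p p' (pd2 b _ (g i _ _)) * _))]

theorem map_ev_sum {N : ℕ} (g : Fin N → Matrix (Fin n) (Fin n) (A ⊗[k] A)) (c : Fin N → k) (p p' : A →ₐ[k] k) :
    (∑ i, c i • g i).map (ev p p') = ∑ i, c i • (g i).map (ev p p') := by
  ext l j
  simp [Matrix.sum_apply]

end

variable {r d : ℕ} {X : Scheme.{u}} (ι : X ⟶ CohB1.ProjSpace r k) [IsClosedImmersion ι]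
  [IsAlgClosed k] (n : ℕ) [SmoothOfRelativeDimension (n + 1) (ι ≫ CohB1.ProjSpace.toSpec r k)] [IsIntegral X]
include ι n

theorem exists_open_oneOrdQuad (hd : 1 ≤ d) (v : LefPen.Form r k d) (hv : LefPen.OneOrdQuad k (n + 1) ι v) :
    ∃ f : LefPen.Form r k d → k, LefPen.IsPolyFun k f ∧ f v ≠ 0 ∧
      ∀ G, f G ≠ 0 → Bad ι G → LefPen.OneOrdQuad k (n + 1) ι G := by
  classical
  obtain ⟨y₀, hset, hord⟩ := hv
  have hns : ¬ LefPen.SmoothAt (LefPen.secToSpec ι ({v} : Set (LefPen.Form r k d))) y₀ := fun hs =>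
    ((Set.ext_iff.1 hset y₀).1 hs) rfl
  let sι := LefPen.secι ι ({v} : Set (LefPen.Form r k d))
  let s0 := pointOfClosedPoint (LefPen.secToSpec ι ({v} : Set (LefPen.Form r k d))) y₀ hord.1
  let q₀ := s0 ≫ sι
  have hq₀ : q₀ ≫ g0 ι = 𝟙 _ := by
    show (s0 ≫ sι) ≫ g0 ι = 𝟙 _
    rw [Category.assoc]
    exact pointOfClosedPoint_comp _ _ _
  have hy₀ : sι y₀ = q₀ pt := by
    show _ = sι (s0 pt)
    rw [pointOfClosedPoint_apply]
  obtain ⟨j, hj⟩ := exists_mem_U ι (q₀ pt)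
  have hs₀ : Sing (pA ι q₀ hq₀ j hj) (φ ι j v) :=
    by_contra fun hs => hns (smoothAt_of_not_sing ι n hd v q₀ hq₀ j hj y₀ hy₀ hs)
  have hφ₀ : φ ι j v ≠ 0 := fun h0 => hns (smoothAt_of_eq_zero ι n hd v q₀ hq₀ j hj y₀ hy₀ h0)
  have huniq : ∀ (q : Spec (CommRingCat.of k) ⟶ X) (hq : q ≫ g0 ι = 𝟙 _) (j' : Fin (r + 1)) (h : q pt ∈ U ι j'),
      Sing (pA ι q hq j' h) (φ ι j' v) → q = q₀ := by
    intro q hq j' h hs
    obtain ⟨y, hy⟩ := (point_data ι v q hq j' h).1 hs.1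
    have h0 : φ ι j' v ≠ 0 := fun h0 => hφ₀ (φ_eq_zero ι v j' j (by
      intro he
      have hne := nonempty_preirreducible_inter (U ι j').isOpen (U ι j).isOpen ⟨_, h⟩ ⟨_, hj⟩
      obtain ⟨x, hx⟩ := hne
      exact (he.le hx : x ∈ (⊥ : X.Opens))) h0)
    have hns' := not_smoothAt_of_sing ι n hd v q hq j' h y hy h0 hs
    have : y = y₀ := by
      by_contra hne
      exact hns' ((Set.ext_iff.1 hset y).2 hne)
    exact ext_of_apply_closedPoint_eq (g0 ι) hq hq₀ (hy.symm.trans ((congrArg sι this).trans hy₀))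
  -- coordinates near the double point
  obtain ⟨hsm, hdom, hnoe, ψ, hψ1, hψ2⟩ := chart_data ι n hd j q₀ hq₀ hj
  obtain ⟨x, -, -, -, hx⟩ := exists_gens ι (d := d) hd j
  obtain ⟨gA, hgA, z, b, hb⟩ :=
    exists_local_coords x hx (hdim_chart ι (n + 1) j) (pA ι q₀ hq₀ j hj) ψ hψ1 hψ2
  let T := Localization.Away gA
  haveI : Algebra.FiniteType k Γ(X, U ι j) := Algebra.FiniteType.of_surjective _ hx
  haveI : Algebra.FiniteType Γ(X, U ι j) T := haveI := IsLocalization.Away.finitePresentation (S := T) gA; inferInstance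
  haveI : Algebra.FiniteType k T := Algebra.FiniteType.trans (S := Γ(X, U ι j)) inferInstance inferInstance
  obtain ⟨e, he1, he⟩ := exists_e z b hb
  obtain ⟨p₀, hp₀, -, -⟩ := exists_extend (n := n + 1) (T := T) gA (pA ι q₀ hq₀ j hj) hgA
  let B := Module.finBasis k (LefPen.Form r k d)
  let N := Module.finrank k (LefPen.Form r k d)
  let c : LefPen.Form r k d → Fin N → k := fun G => B.equivFun G
  choose gt hgt using fun i => exists_taylor z b hb he (algebraMap Γ(X, U ι j) T (φ ι j (B i)))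
  let gG : LefPen.Form r k d → Matrix (Fin (n + 1)) (Fin (n + 1)) (T ⊗[k] T) := fun G => ∑ i, c G i • gt i
  have hgG : ∀ G, IsTaylor z b e (algebraMap Γ(X, U ι j) T (φ ι j G)) (gG G) := fun G => by
    have e2 : algebraMap Γ(X, U ι j) T (φ ι j G) = ∑ i, c G i • algebraMap Γ(X, U ι j) T (φ ι j (B i)) := by
      conv_lhs => rw [← B.sum_equivFun G, map_sum, map_sum]
      refine Finset.sum_congr rfl fun i _ => ?_
      rw [map_smul, Algebra.smul_def, map_mul, ← IsScalarTower.algebraMap_apply, ← Algebra.smul_def]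
    rw [e2]
    exact isTaylor_sum z b _ gt hgt (c G)
  have hnd := nd_of_ordQuad ι n j gA z b hb hd v q₀ hq₀ hj hs₀ p₀ hp₀ (he1 p₀) (hgG v) y₀ hy₀ hord
  obtain ⟨o, ho⟩ := exists_test hnd
  -- triples
  haveI : LocallyOfFiniteType (τ k N) := by
    rw [HasRingHomProperty.Spec_iff (P := @LocallyOfFiniteType), CommRingCat.hom_ofHom, ← MvPolynomial.algebraMap_eq,
      RingHom.finiteType_algebraMap]
    infer_instance
  let XX := pullback (g0 ι) (g0 ι)
  let gXX : XX ⟶ Spec (CommRingCat.of k) := pullback.fst (g0 ι) (g0 ι) ≫ g0 ι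
  let Y := pullback gXX (τ k N)
  let fst₁ : Y ⟶ X := pullback.fst gXX (τ k N) ≫ pullback.fst (g0 ι) (g0 ι)
  let fst₂ : Y ⟶ X := pullback.fst gXX (τ k N) ≫ pullback.snd (g0 ι) (g0 ι)
  let snd : Y ⟶ Spec (CommRingCat.of (MvPolynomial (Fin N) k)) := pullback.snd gXX (τ k N)
  haveI : IsProper (g0 ι) := inferInstance
  haveI : IsProper gXX := inferInstance
  haveI : UniversallyClosed snd := inferInstance
  haveI : LocallyOfFiniteType (snd ≫ τ k N) := inferInstance
  haveI : JacobsonSpace Y := LocallyOfFiniteType.jacobsonSpace (snd ≫ τ k N)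
  have hcond₁ : fst₁ ≫ g0 ι = snd ≫ τ k N := by
    show (pullback.fst gXX (τ k N) ≫ pullback.fst (g0 ι) (g0 ι)) ≫ g0 ι = _
    rw [Category.assoc]
    exact pullback.condition
  have hcond₂ : fst₂ ≫ g0 ι = snd ≫ τ k N := by
    show (pullback.fst gXX (τ k N) ≫ pullback.snd (g0 ι) (g0 ι)) ≫ g0 ι = _
    rw [Category.assoc, ← pullback.condition]
    exact pullback.condition
  let BP : Set Y := {y | ∃ (z : Spec (CommRingCat.of k) ⟶ Y) (G : LefPen.Form r k d),
    z pt = y ∧ z ≫ snd = LefDualLib.ev (c G) ∧ Bad ι G ∧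
    (∃ (hq : (z ≫ fst₁) ≫ g0 ι = 𝟙 _) (j₁ : Fin (r + 1)) (h : (z ≫ fst₁) pt ∈ U ι j₁),
      Sing (pA ι (z ≫ fst₁) hq j₁ h) (φ ι j₁ G)) ∧
    (∃ (hq : (z ≫ fst₂) ≫ g0 ι = 𝟙 _) (j₁ : Fin (r + 1)) (h : (z ≫ fst₂) pt ∈ U ι j₁),
      Sing (pA ι (z ≫ fst₂) hq j₁ h) (φ ι j₁ G)) ∧
    ¬ (z ≫ fst₁ = z ≫ fst₂ ∧ Good ι n G (z ≫ fst₁))}
  let C : Set _ := snd '' closure BP
  have hC : IsClosed C := snd.isClosedMap _ isClosed_closure
  have hvC : LefDualLib.ev (c v) pt ∉ C := by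
    intro hmem
    let F : Set Y := closure BP ∩ snd ⁻¹' {LefDualLib.ev (c v) pt}
    have hFc : IsClosed F := isClosed_closure.inter (((pointEquivClosedPoint (τ k N))
      ⟨LefDualLib.ev (c v), ev_τ _⟩).2.preimage snd.continuous)
    obtain ⟨y0, hy0, hy0'⟩ := hmem
    obtain ⟨y, ⟨hyB, hyv⟩, hyc⟩ := nonempty_inter_closedPoints (Z := F) ⟨y0, hy0, hy0'⟩ hFc.isLocallyClosed
    let s := pointOfClosedPoint (snd ≫ τ k N) y hyc
    have hs : s ≫ snd ≫ τ k N = 𝟙 _ := pointOfClosedPoint_comp _ _ _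
    have hsy : s pt = y := pointOfClosedPoint_apply _ _ _ _
    have hsnd : s ≫ snd = LefDualLib.ev (c v) :=
      ext_of_apply_closedPoint_eq (τ k N) (by rw [Category.assoc]; exact hs) (ev_τ _) (by
        show snd (s pt) = _
        rw [hsy]; exact hyv)
    -- both projections of the limit point are the double point
    have proj : ∀ pr : Y ⟶ X, pr ≫ g0 ι = snd ≫ τ k N →
        (∀ (z : Spec (CommRingCat.of k) ⟶ Y) (G : LefPen.Form r k d), z pt ∈ BP → z ≫ snd = LefDualLib.ev (c G) →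
          ∃ (hq : (z ≫ pr) ≫ g0 ι = 𝟙 _) (j₁ : Fin (r + 1)) (h : (z ≫ pr) pt ∈ U ι j₁),
            Sing (pA ι (z ≫ pr) hq j₁ h) (φ ι j₁ G)) → s ≫ pr = q₀ := by
      intro pr hpr hBP
      have hq : (s ≫ pr) ≫ g0 ι = 𝟙 _ := by rw [Category.assoc, hpr]; exact hs
      obtain ⟨j, hj⟩ := exists_mem_U ι ((s ≫ pr) pt)
      haveI := smooth_chartRing ι (n + 1) j
      have key : ∀ ℓ : LefPen.Form r k d →ₗ[k] Γ(X, U ι j),
          (∀ (q' : Spec (CommRingCat.of k) ⟶ X) (hq' : q' ≫ g0 ι = 𝟙 _) (h' : q' pt ∈ U ι j) (G' : LefPen.Form r k d),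
            Sing (pA ι q' hq' j h') (φ ι j G') → pA ι q' hq' j h' (ℓ G') = 0) →
          pA ι (s ≫ pr) hq j hj (ℓ v) = 0 := by
        intro ℓ hℓ
        let Tv : Fin N → Γ(Y, pr ⁻¹ᵁ U ι j) := fun i =>
          Y.presheaf.map (homOfLE (le_top : pr ⁻¹ᵁ U ι j ≤ ⊤)).op (Coh.toGlobal snd (MvPolynomial.X i))
        let σ : Γ(Y, pr ⁻¹ᵁ U ι j) := ∑ i, pr.app (U ι j) (ℓ (B i)) * Tv i
        have hval : ∀ (z : Spec (CommRingCat.of k) ⟶ Y) (G : LefPen.Form r k d) (hz : z pt ∈ pr ⁻¹ᵁ U ι j)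
            (hz1 : (z ≫ pr) ≫ g0 ι = 𝟙 _), z ≫ snd = LefDualLib.ev (c G) →
            pval z (pr ⁻¹ᵁ U ι j) hz σ = pA ι (z ≫ pr) hz1 j hz (ℓ G) := by
          intro z G hz hz1 hz2
          have e : ℓ G = ∑ i, c G i • ℓ (B i) := by
            conv_lhs => rw [← B.sum_equivFun G, map_sum]
            exact Finset.sum_congr rfl fun i _ => map_smul _ _ _
          rw [e, map_sum, map_sum]
          refine Finset.sum_congr rfl fun i _ => ?_
          rw [map_mul, map_smul, smul_eq_mul, mul_comm (c G i)]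
          refine congrArg₂ (· * ·) (pval_comp z pr _ hz _) ?_
          refine (pval_res z le_top hz _).trans ((pval_toGlobal z snd (MvPolynomial.eval (c G)) hz2 _).trans ?_)
          exact MvPolynomial.eval_X i
        by_contra hne
        have hsj : s pt ∈ pr ⁻¹ᵁ U ι j := hj
        have hyO : y ∈ Y.basicOpen σ := by
          rw [← hsy]
          refine (pval_basicOpen s _ hsj σ).2 ?_
          rw [hval s v hsj hq hsnd]
          exact hne
        obtain ⟨y', hy'O, z, G, rfl, hzG, hrest⟩ := mem_closure_iff.1 hyB _ (Y.basicOpen σ).isOpen hyO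
        obtain ⟨hq', j', h', hsing⟩ := hBP z G ⟨z, G, rfl, hzG, hrest⟩ hzG
        have hz' : z pt ∈ pr ⁻¹ᵁ U ι j := Y.basicOpen_le σ hy'O
        refine (pval_basicOpen z _ hz' σ).1 hy'O ?_
        rw [hval z G hz' hq' hzG]
        haveI := smooth_chartRing ι (n + 1) j'
        exact hℓ (z ≫ pr) hq' hz' G (sing_chart ι G (z ≫ pr) hq' j' j h' hz' hsing)
      exact huniq _ hq j hj ⟨key (φ ι j) fun _ _ _ _ h => h.1, fun θ =>
        key ((θ.restrictScalars k).comp ((D k Γ(X, U ι j)).toLinearMap.comp (φ ι j))) fun _ _ _ _ h => h.2 θ⟩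
    have hc_inj : ∀ G G' : LefPen.Form r k d, LefDualLib.ev (c G) = LefDualLib.ev (c G') → G = G' := fun G G' h => by
      refine B.equivFun.injective (funext fun i => ?_)
      have := congrArg (fun f => (f : CommRingCat.of (MvPolynomial (Fin N) k) ⟶ CommRingCat.of k).hom (MvPolynomial.X i))
        (Spec.map_injective h)
      simpa [c] using this
    have hp₁ : s ≫ fst₁ = q₀ := proj fst₁ hcond₁ fun z G ⟨z', G', hz', hzG', _, h1, _⟩ hzG => by
      obtain rfl : z' = z := ext_of_apply_closedPoint_eq (snd ≫ τ k N)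
        (by rw [← Category.assoc, hzG', ev_τ]) (by rw [← Category.assoc, hzG, ev_τ]) hz'
      obtain rfl := hc_inj G' G (hzG'.symm.trans hzG)
      exact h1
    have hp₂ : s ≫ fst₂ = q₀ := proj fst₂ hcond₂ fun z G ⟨z', G', hz', hzG', _, _, h2, _⟩ hzG => by
      obtain rfl : z' = z := ext_of_apply_closedPoint_eq (snd ≫ τ k N)
        (by rw [← Category.assoc, hzG', ev_τ]) (by rw [← Category.assoc, hzG, ev_τ]) hz'
      obtain rfl := hc_inj G' G (hzG'.symm.trans hzG)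
      exact h2
    -- the open neighbourhood
    let Dg := X.basicOpen gA
    haveI : IsLocalization.Away gA Γ(X, Dg) := (isAffineOpen_U ι j).isLocalization_basicOpen gA
    let ρ : T →+* Γ(X, Dg) := IsLocalization.Away.lift (S := T) gA
      (g := algebraMap Γ(X, U ι j) Γ(X, Dg)) (IsLocalization.Away.algebraMap_isUnit gA)
    let O : Y.Opens := fst₁ ⁻¹ᵁ Dg ⊓ fst₂ ⁻¹ᵁ Dg
    let θ₁ : T → Γ(Y, O) := fun a => Y.presheaf.map (homOfLE (inf_le_left : O ≤ fst₁ ⁻¹ᵁ Dg)).op (fst₁.app Dg (ρ a))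
    let θ₂ : T → Γ(Y, O) := fun a => Y.presheaf.map (homOfLE (inf_le_right : O ≤ fst₂ ⁻¹ᵁ Dg)).op (fst₂.app Dg (ρ a))
    let κ : k →+* Γ(Y, O) := (Y.presheaf.map (homOfLE (le_top : O ≤ ⊤)).op).hom.comp
      ((Coh.toGlobal snd).comp MvPolynomial.C)
    let Tv : Fin N → Γ(Y, O) := fun i =>
      Y.presheaf.map (homOfLE (le_top : O ≤ ⊤)).op (Coh.toGlobal snd (MvPolynomial.X i))
    have hsplit : ∀ w : T ⊗[k] T, ∃ S : Γ(Y, O), ∀ (z : Spec (CommRingCat.of k) ⟶ Y) (hz : z pt ∈ O) (p p' : T →ₐ[k] k),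
        (∀ a, pval (z ≫ fst₁) Dg (by simpa using hz.1) (ρ a) = p a) →
        (∀ a, pval (z ≫ fst₂) Dg (by simpa using hz.2) (ρ a) = p' a) → pval z O hz S = ev p p' w := by
      intro w
      induction w using TensorProduct.induction_on with
      | zero => exact ⟨0, fun z hz p p' _ _ => by rw [map_zero, map_zero]⟩
      | tmul a a' =>
        refine ⟨θ₁ a * θ₂ a', fun z hz p p' hp hp' => ?_⟩
        rw [map_mul, ev_tmul]
        exact congrArg₂ (· * ·)
          ((pval_res z _ hz _).trans ((pval_comp z fst₁ Dg hz.1 _).trans (hp a)))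
          ((pval_res z _ hz _).trans ((pval_comp z fst₂ Dg hz.2 _).trans (hp' a')))
      | add w w' hw hw' =>
        obtain ⟨S, hS⟩ := hw; obtain ⟨S', hS'⟩ := hw'
        exact ⟨S + S', fun z hz p p' hp hp' => by rw [map_add, map_add, hS z hz p p' hp hp', hS' z hz p p' hp hp']⟩
    choose Sx hSx using hsplit
    let GM : Matrix (Fin (n + 1)) (Fin (n + 1)) Γ(Y, O) := ∑ i, Tv i • (gt i).map Sx
    let HM : Matrix (Fin (n + 1)) (Fin (n + 1)) Γ(Y, O) := ∑ i, Tv i • (polar z b (gt i)).map Sx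
    let σ : Γ(Y, O) := Sx e * test κ o GM HM
    have hpt : ∀ (w : Spec (CommRingCat.of k) ⟶ Y) (q : Spec (CommRingCat.of k) ⟶ X) (hq : q ≫ g0 ι = 𝟙 _)
        (hD : q pt ∈ Dg), ∃ (h : q pt ∈ U ι j) (p : T →ₐ[k] k), (∀ a, pval q Dg hD (ρ a) = p a) ∧
          ∀ a, p (algebraMap _ T a) = pA ι q hq j h a := by
      intro w q hq hD
      have h : q pt ∈ U ι j := X.basicOpen_le gA hD
      have hg : pA ι q hq j h gA ≠ 0 := (pval_basicOpen q _ h gA).1 hD
      obtain ⟨p, hp, -, -⟩ := exists_extend (n := n + 1) (T := T) gA (pA ι q hq j h) hg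
      refine ⟨h, p, fun a => ?_, hp⟩
      have : (pval q Dg hD).comp ρ = p.toRingHom := IsLocalization.ringHom_ext (Submonoid.powers gA) (RingHom.ext fun a => by
        show pval q Dg hD (ρ (algebraMap _ T a)) = p (algebraMap _ T a)
        rw [hp, IsLocalization.Away.lift_eq]
        exact pval_res q (X.basicOpen_le gA) hD a)
      exact RingHom.congr_fun this a
    have hval : ∀ (w : Spec (CommRingCat.of k) ⟶ Y) (G : LefPen.Form r k d) (hw : w pt ∈ O) (p p' : T →ₐ[k] k),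
        w ≫ snd = LefDualLib.ev (c G) →
        (∀ a, pval (w ≫ fst₁) Dg (by simpa using hw.1) (ρ a) = p a) →
        (∀ a, pval (w ≫ fst₂) Dg (by simpa using hw.2) (ρ a) = p' a) →
        pval w O hw σ = ev p p' e *
          test (RingHom.id k) o ((gG G).map (ev p p')) ((polar z b (gG G)).map (ev p p')) := by
      intro w G hw p p' hwG hp hp'
      have hκ : (pval w O hw).comp κ = RingHom.id k := RingHom.ext fun a => by
        refine (pval_res w le_top hw _).trans ((pval_toGlobal w snd (MvPolynomial.eval (c G)) hwG _).trans ?_)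
        exact MvPolynomial.eval_C a
      have hT : ∀ i, pval w O hw (Tv i) = c G i := fun i =>
        (pval_res w le_top hw _).trans ((pval_toGlobal w snd (MvPolynomial.eval (c G)) hwG _).trans (MvPolynomial.eval_X i))
      rw [map_mul, map_test, hκ, hSx e w hw p p' hp hp']
      congr 1
      congr 1
      · ext l m
        simp [GM, gG, Matrix.sum_apply, hT, hSx _ w hw p p' hp hp']
      · rw [show gG G = ∑ i, c G i • gt i from rfl, ev_polar_sum]
        ext l m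
        simp [HM, Matrix.sum_apply, hT, hSx _ w hw p p' hp hp']
        rfl
    have hsO : s pt ∈ O := by
      constructor <;> show _ ∈ Dg
      · show (s ≫ fst₁) pt ∈ Dg
        rw [hp₁]; exact (pval_basicOpen q₀ _ hj gA).2 hgA
      · show (s ≫ fst₂) pt ∈ Dg
        rw [hp₂]; exact (pval_basicOpen q₀ _ hj gA).2 hgA
    have hD₀ : q₀ pt ∈ Dg := (pval_basicOpen q₀ _ hj gA).2 hgA
    obtain ⟨hj', p, hp, hp'⟩ := hpt s q₀ hq₀ hD₀
    obtain rfl : p₀ = p := IsLocalization.algHom_ext (Submonoid.powers gA) (AlgHom.ext fun a => (hp₀ a).trans (hp' a).symm)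
    have hyO : y ∈ Y.basicOpen σ := by
      rw [← hsy]
      refine (pval_basicOpen s O hsO σ).2 ?_
      rw [hval s v hsO p₀ p₀ hsnd (fun a => (pval_congr hp₁ _ _).trans (hp a)) (fun a => (pval_congr hp₂ _ _).trans (hp a)),
        he1, one_mul, polar_diag z b]
      exact ho
    obtain ⟨y', hy'O, w, G, rfl, hwG, hbad, ⟨hq1, j₁, h1, hsing1⟩, ⟨hq2, j₂, h2, hsing2⟩, hno⟩ :=
      mem_closure_iff.1 hyB _ (Y.basicOpen σ).isOpen hyO
    have hwO : w pt ∈ O := Y.basicOpen_le σ hy'O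
    have hD1 : (w ≫ fst₁) pt ∈ Dg := hwO.1
    have hD2 : (w ≫ fst₂) pt ∈ Dg := hwO.2
    obtain ⟨h1', p1, hp1, hp1'⟩ := hpt w _ hq1 hD1
    obtain ⟨h2', p2, hp2, hp2'⟩ := hpt w _ hq2 hD2
    have hne := (pval_basicOpen w O hwO σ).1 hy'O
    rw [hval w G hwO p1 p2 hwG hp1 hp2, mul_ne_zero_iff] at hne
    have hsT : ∀ (q : Spec (CommRingCat.of k) ⟶ X) (hq : q ≫ g0 ι = 𝟙 _) (h : q pt ∈ U ι j) (p : T →ₐ[k] k)
        (_ : ∀ a, p (algebraMap _ T a) = pA ι q hq j h a),
        Sing (pA ι q hq j h) (φ ι j G) → Sing p (algebraMap _ T (φ ι j G)) := by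
      intro q hq h p hp hs
      have hg : pA ι q hq j h gA ≠ 0 := by
        rw [← hp]
        exact ((IsLocalization.Away.algebraMap_isUnit gA).map p).ne_zero
      obtain ⟨p', hp', hs', -⟩ := exists_extend (n := n + 1) (T := T) gA (pA ι q hq j h) hg
      obtain rfl : p = p' := IsLocalization.algHom_ext (Submonoid.powers gA) (AlgHom.ext fun a => (hp a).trans (hp' a).symm)
      exact hs' _ hs
    haveI := smooth_chartRing ι (n + 1) j₁
    haveI := smooth_chartRing ι (n + 1) j₂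
    have hS1 := sing_chart ι G _ hq1 j₁ j h1 h1' hsing1
    have hS2 := sing_chart ι G _ hq2 j₂ j h2 h2' hsing2
    have hT1 := (sing_iff_pd b p1 _).1 (hsT _ hq1 h1' p1 hp1' hS1)
    have hT2 := (sing_iff_pd b p2 _).1 (hsT _ hq2 h2' p2 hp2' hS2)
    obtain ⟨hpair1, hpair2⟩ := taylor_pair z b hb (hgG G) p1 p2 hT1.1 hT1.2 hT2.1 hT2.2
    have hu := eq_zero_of_test hne.2 hpair1 hpair2
    obtain rfl : p1 = p2 := eq_of_du z b hb he p1 p2 hne.1 fun l => congrFun hu l
    have hpA : pA ι (w ≫ fst₁) hq1 j h1' = pA ι (w ≫ fst₂) hq2 j h2' :=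
      AlgHom.ext fun a => (hp1' a).symm.trans (hp2' a)
    refine hno ⟨eq_of_pA ι hq1 hq2 j h1' h2' hpA, ?_⟩
    refine good_of_nd ι n j gA z b hb hd G _ hq1 h1' hS1 p1 hp1' (he1 p1) (hgG G) ?_
    have hne2 := hne.2
    rw [polar_diag z b] at hne2
    exact fun u hu1 hu2 => eq_zero_of_test hne2 hu1 hu2
  obtain ⟨-, ⟨Q, rfl⟩, hQv, hQC⟩ :=
    PrimeSpectrum.isTopologicalBasis_basic_opens.exists_subset_of_mem_open hvC hC.isOpen_compl
  refine ⟨fun G => MvPolynomial.eval (c G) Q, S4026.isPolyFun_eval B.equivFun.toLinearMap Q,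
    (mem_basicOpen_ev (c v) Q).1 hQv, fun G hG hbad => ?_⟩
  have hall : ∀ (q q' : Spec (CommRingCat.of k) ⟶ X) (hq : q ≫ g0 ι = 𝟙 _) (hq' : q' ≫ g0 ι = 𝟙 _)
      (j j' : Fin (r + 1)) (h : q pt ∈ U ι j) (h' : q' pt ∈ U ι j'),
      Sing (pA ι q hq j h) (φ ι j G) → Sing (pA ι q' hq' j' h') (φ ι j' G) → q = q' ∧ Good ι n G q := by
    intro q q' hq hq' j j' h h' hs hs'
    by_contra hno
    let w := pullback.lift (f := gXX) (g := τ k N) (pullback.lift q q' (hq.trans hq'.symm)) (LefDualLib.ev (c G))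
      (by
        show pullback.lift q q' _ ≫ pullback.fst (g0 ι) (g0 ι) ≫ g0 ι = _
        rw [pullback.lift_fst_assoc]
        exact hq.trans (ev_τ _).symm)
    have hw1 : w ≫ fst₁ = q := by simp [w, fst₁]
    have hw2 : w ≫ fst₂ = q' := by simp [w, fst₂]
    have hwG : w ≫ snd = LefDualLib.ev (c G) := pullback.lift_snd _ _ _
    refine hQC ((mem_basicOpen_ev (c G) Q).2 hG) ⟨w pt, subset_closure
      ⟨w, G, rfl, hwG, hbad, ?_, ?_, by rw [hw1, hw2]; exact hno⟩, ?_⟩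
    · rw [hw1]; exact ⟨hq, j, h, hs⟩
    · rw [hw2]; exact ⟨hq', j', h', hs'⟩
    · show (w ≫ snd) pt = _
      rw [hwG]
  obtain ⟨q, hq, j₁, h, hs⟩ := hbad
  obtain ⟨y, hy⟩ := (point_data ι G q hq j₁ h).1 hs.1
  obtain ⟨hns', hordG⟩ := (hall q q hq hq j₁ j₁ h h hs hs).2 y hy
  refine ⟨y, Set.ext fun y' => ⟨fun hy' he => hns' ((Set.mem_singleton_iff.1 he) ▸ hy'), fun hne => ?_⟩, hordG⟩
  by_contra hns''
  let g := LefPen.secToSpec ι ({G} : Set (LefPen.Form r k d))
  haveI : JacobsonSpace (LefPen.Sec ι ({G} : Set (LefPen.Form r k d))) := LocallyOfFiniteType.jacobsonSpace g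
  let F : Set (LefPen.Sec ι ({G} : Set (LefPen.Form r k d))) := (g.smoothLocus : Set _)ᶜ ∩ {y}ᶜ
  obtain ⟨y'', ⟨hy''1, hy''2⟩, hyc⟩ := nonempty_inter_closedPoints (Z := F) ⟨y', hns'', hne⟩
    (g.smoothLocus.isOpen.isClosed_compl.isLocallyClosed.inter hordG.1.isOpen_compl.isLocallyClosed)
  let s := pointOfClosedPoint g y'' hyc
  have hq' : (s ≫ LefPen.secι ι ({G} : Set (LefPen.Form r k d))) ≫ g0 ι = 𝟙 _ := by
    rw [Category.assoc]; exact pointOfClosedPoint_comp _ _ _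
  have hy'' : LefPen.secι ι ({G} : Set (LefPen.Form r k d)) y'' = (s ≫ LefPen.secι ι ({G} : Set (LefPen.Form r k d))) pt := by
    show _ = LefPen.secι ι _ (s pt)
    rw [pointOfClosedPoint_apply]
  obtain ⟨j', h'⟩ := exists_mem_U ι ((s ≫ LefPen.secι ι ({G} : Set (LefPen.Form r k d))) pt)
  have hs' : Sing (pA ι _ hq' j' h') (φ ι j' G) :=
    by_contra fun hs' => hy''1 (smoothAt_of_not_sing ι n hd G _ hq' j' h' y'' hy'' hs')
  have he := (hall _ _ hq hq' j₁ j' h h' hs hs').1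
  refine hy''2 ((LefPen.secι ι ({G} : Set (LefPen.Form r k d))).isClosedEmbedding.injective ?_)
  rw [hy'', ← he]; exact hy.symm

end Groth.Agent.OdpLib
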