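import Groth.Agent.OdpLib.Smooth
import Groth.Agent.OdpLib.Local
import Groth.Agent.LefDualLib.Trans

/-!
# Singular points of one section, seen in the charts
-/

set_option autoImplicit false
set_option maxHeartbeats 600000
set_option backward.isDefEq.respectTransparency false
set_option backward.isDefEq.respectTransparency.types false
set_option linter.style.haveILetI false
universe u
open CategoryTheory CategoryTheory.Limits AlgebraicGeometry TopologicalSpace IsLocalRing KaehlerDifferential Module Matrix TensorProduct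
open Groth.Agent.AmpleEmb Groth.Agent.BertiniProjLib Groth.Agent.LefDualLib

noncomputable section

namespace Groth.Agent.OdpLib

theorem lfp_of_lft {U V : Scheme.{u}} (f : U ⟶ V) [LocallyOfFiniteType f] [IsLocallyNoetherian V] :
    LocallyOfFinitePresentation f := by
  rw [HasRingHomProperty.iff_appLE (P := @LocallyOfFinitePresentation)]
  intro W E e
  haveI : IsNoetherianRing ↥Γ(V, W) := IsLocallyNoetherian.component_noetherian W
  exact RingHom.FinitePresentation.of_finiteType.1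
    (HasRingHomProperty.appLE (P := @LocallyOfFiniteType) f ‹_› W E e)

variable {k : Type u} [Field k] {r d : ℕ} {X : Scheme.{u}} (ι : X ⟶ CohB1.ProjSpace r k) [IsClosedImmersion ι]

instance lfp_sec (G : LefPen.Form r k d) :
    LocallyOfFinitePresentation (LefPen.secToSpec ι ({G} : Set (LefPen.Form r k d))) :=
  haveI : IsNoetherianRing (CommRingCat.of k) := inferInstanceAs (IsNoetherianRing k)
  lfp_of_lft _

/-- The prime of a rational point in a chart. -/
theorem fromSpec_ker (q : Spec (CommRingCat.of k) ⟶ X) (hq : q ≫ g0 ι = 𝟙 _) (j : Fin (r + 1))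
    (h : q pt ∈ U ι j) :
    (isAffineOpen_U ι j).fromSpec ⟨RingHom.ker (pA ι q hq j h).toRingHom, RingHom.ker_isPrime _⟩ = q pt := by
  have hV := isAffineOpen_U ι j
  refine (congrArg _ (PrimeSpectrum.ext ?_)).trans (hV.fromSpec_primeIdealOf ⟨q pt, h⟩)
  refine Ideal.ext fun a => ?_
  have h' : q pt ∈ X.basicOpen a ↔ a ∉ (hV.primeIdealOf ⟨q pt, h⟩).asIdeal := by
    show (⟨q pt, h⟩ : U ι j).1 ∈ X.basicOpen a ↔ _
    rw [← hV.fromSpec_primeIdealOf ⟨q pt, h⟩, ← Scheme.Hom.mem_preimage, hV.fromSpec_preimage_basicOpen]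
    exact Iff.rfl
  exact ((not_iff_not.1 (h'.symm.trans (pval_basicOpen q _ h a))).symm : _ ↔ _)

/-- Rational points with the same coordinates coincide. -/
theorem eq_of_pA [IsAlgClosed k] {q q' : Spec (CommRingCat.of k) ⟶ X} (hq : q ≫ g0 ι = 𝟙 _) (hq' : q' ≫ g0 ι = 𝟙 _)
    (j : Fin (r + 1)) (h : q pt ∈ U ι j) (h' : q' pt ∈ U ι j) (e : pA ι q hq j h = pA ι q' hq' j h') : q = q' := by
  refine ext_of_apply_closedPoint_eq (g0 ι) hq hq' ?_
  show q pt = q' pt
  rw [← fromSpec_ker ι q hq j h, ← fromSpec_ker ι q' hq' j h']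
  exact congrArg _ (PrimeSpectrum.ext (by rw [e]))

/-- The chart of a section at a point over a rational point. -/
theorem point_data (G : LefPen.Form r k d) (q : Spec (CommRingCat.of k) ⟶ X) (hq : q ≫ g0 ι = 𝟙 _)
    (j : Fin (r + 1)) (h : q pt ∈ U ι j) :
    (pA ι q hq j h (φ ι j G) = 0 →
      ∃ y, LefPen.secι ι ({G} : Set (LefPen.Form r k d)) y = q pt) ∧
    ∀ y, LefPen.secι ι ({G} : Set (LefPen.Form r k d)) y = q pt →
      ∃ (hφ : pA ι q hq j h (φ ι j G) = 0)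
        (c : Spec (CommRingCat.of (Γ(X, U ι j) ⧸ Ideal.span {φ ι j G})) ⟶ LefPen.Sec ι ({G} : Set (LefPen.Form r k d))),
        IsOpenImmersion c ∧ c ≫ LefPen.secToSpec ι ({G} : Set (LefPen.Form r k d)) = cutMap (φ ι j G) ∧
        c (cutPt (pA ι q hq j h) (φ ι j G) hφ) = y := by
  let J := LefPen.secIdeal ι ({G} : Set (LefPen.Form r k d))
  let W : X.affineOpens := ⟨U ι j, isAffineOpen_U ι j⟩
  have key : ∀ I : Ideal Γ(X, U ι j), J.ideal W = I → ∃ c : Spec (CommRingCat.of (Γ(X, U ι j) ⧸ I)) ⟶ J.subscheme,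
      IsOpenImmersion c ∧ c ≫ J.subschemeι ≫ ι ≫ CohB1.ProjSpace.toSpec r k =
        Spec.map (CommRingCat.ofHom (algebraMap k (Γ(X, U ι j) ⧸ I))) ∧
      c ≫ J.subschemeι = Spec.map (CommRingCat.ofHom (Ideal.Quotient.mk I)) ≫ W.2.fromSpec ∧
      Set.range c = J.subschemeι ⁻¹' (U ι j) := by
    rintro I rfl
    refine ⟨J.subschemeCover.f W, inferInstance, ?_, ?_, ?_⟩
    · rw [← Category.assoc, J.subschemeCover_map_subschemeι, J.glueDataObjι_ι, Category.assoc,
        PlaneTwistLib.fromSpec_comp _ W.2, ← Spec.map_comp, ← BertiniProjLib.π_C]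
      rfl
    · rw [J.subschemeCover_map_subschemeι, J.glueDataObjι_ι]
    · have := congrArg (fun O : J.subscheme.Opens => (O : Set J.subscheme)) (J.opensRange_subschemeCover_map W)
      exact this
  obtain ⟨c, hc, hcg, hcι, hcr⟩ := key _ (mk_ideal_sec ι G j)
  have hpt : ∀ hφ, J.subschemeι (c (cutPt (pA ι q hq j h) (φ ι j G) hφ)) = q pt := fun hφ => by
    show (c ≫ J.subschemeι) _ = _
    rw [hcι, ← fromSpec_ker ι q hq j h]
    refine congrArg W.2.fromSpec (PrimeSpectrum.ext ?_)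
    exact comap_cutPt _ _ hφ
  refine ⟨fun hφ => ⟨_, hpt hφ⟩, fun y hy => ?_⟩
  obtain ⟨P, hP⟩ : y ∈ Set.range c := by rw [hcr]; show J.subschemeι y ∈ U ι j; rw [show J.subschemeι y = q pt from hy]; exact h
  have hφ : pA ι q hq j h (φ ι j G) = 0 := by
    have e : W.2.fromSpec ((Spec.map (CommRingCat.ofHom (Ideal.Quotient.mk _))) P) = q pt := by
      rw [← Scheme.Hom.comp_apply, ← hcι, Scheme.Hom.comp_apply, hP]; exact hy
    rw [← fromSpec_ker ι q hq j h] at e
    have e' := congrArg PrimeSpectrum.asIdeal (W.2.fromSpec.isOpenEmbedding.injective e)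
    refine RingHom.mem_ker.1 (e'.le (show Ideal.Quotient.mk (Ideal.span {φ ι j G}) (φ ι j G) ∈ P.asIdeal from ?_))
    rw [Ideal.Quotient.eq_zero_iff_mem.2 (Ideal.mem_span_singleton_self _)]
    exact zero_mem _
  exact ⟨hφ, c, hc, hcg, J.subschemeι.isClosedEmbedding.injective ((hpt hφ).trans hy.symm)⟩

/-- `y` is an ordinary double point, not a smooth one. -/
def Good (n : ℕ) (G : LefPen.Form r k d) (q : Spec (CommRingCat.of k) ⟶ X) : Prop :=
  ∀ y, LefPen.secι ι ({G} : Set (LefPen.Form r k d)) y = q pt →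
    ¬ LefPen.SmoothAt (LefPen.secToSpec ι ({G} : Set (LefPen.Form r k d))) y ∧
      LefPen.IsOrdQuadSing k n (LefPen.secToSpec ι ({G} : Set (LefPen.Form r k d))) y

variable [IsAlgClosed k] (n : ℕ) [SmoothOfRelativeDimension (n + 1) (ι ≫ CohB1.ProjSpace.toSpec r k)] [IsIntegral X]
include n

/-- What is used about a chart around a point. -/
theorem chart_data (hd : 1 ≤ d) (j : Fin (r + 1)) (q : Spec (CommRingCat.of k) ⟶ X) (hq : q ≫ g0 ι = 𝟙 _)
    (h : q pt ∈ U ι j) :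
    Algebra.Smooth k Γ(X, U ι j) ∧ IsDomain Γ(X, U ι j) ∧ IsNoetherianRing Γ(X, U ι j) ∧
    ∃ ψ : Γ(X, U ι j) →ₐ[k] MvPowerSeries (Fin (n + 1)) k,
      (∀ (a : Γ(X, U ι j)) (i : ℕ), ψ a ∈ maximalIdeal (MvPowerSeries (Fin (n + 1)) k) ^ i ↔
        a ∈ RingHom.ker (pA ι q hq j h).toRingHom ^ i) ∧
      ∀ (g : MvPowerSeries (Fin (n + 1)) k) (i : ℕ), ∃ a, ψ a - g ∈ maximalIdeal (MvPowerSeries (Fin (n + 1)) k) ^ i := by
  haveI := smooth_chartRing ι (n + 1) j
  haveI : Nonempty (U ι j) := ⟨⟨_, h⟩⟩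
  obtain ⟨x, -, -, -, hx⟩ := exists_gens ι (d := d) hd j
  haveI : Algebra.FiniteType k Γ(X, U ι j) := Algebra.FiniteType.of_surjective _ hx
  haveI : IsNoetherianRing Γ(X, U ι j) := Algebra.FiniteType.isNoetherianRing k _
  obtain ⟨e⟩ := OqsLib.exists_cotangent_equiv x hx (hdim_chart ι (n + 1) j) (pA ι q hq j h)
  exact ⟨inferInstance, inferInstance, inferInstance, OqsLib.exists_coord _ (n + 1) e⟩

theorem smoothAt_of_not_sing (hd : 1 ≤ d) (G : LefPen.Form r k d) (q : Spec (CommRingCat.of k) ⟶ X)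
    (hq : q ≫ g0 ι = 𝟙 _) (j : Fin (r + 1)) (h : q pt ∈ U ι j)
    (y : LefPen.Sec ι ({G} : Set (LefPen.Form r k d))) (hy : LefPen.secι ι ({G} : Set (LefPen.Form r k d)) y = q pt)
    (hs : ¬ Sing (pA ι q hq j h) (φ ι j G)) :
    LefPen.SmoothAt (LefPen.secToSpec ι ({G} : Set (LefPen.Form r k d))) y := by
  obtain ⟨hsm, -, -, -⟩ := chart_data ι n hd j q hq h
  obtain ⟨x, -, -, -, hx⟩ := exists_gens ι (d := d) hd j
  obtain ⟨hφ, c, hc, hcg, rfl⟩ := (point_data ι G q hq j h).2 y hy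
  haveI : LocallyOfFinitePresentation (cutMap (k := k) (φ ι j G)) := hcg ▸ inferInstance
  have h1 := mem_smoothLocus_of_not_sing x hx (hdim_chart ι (n + 1) j) (φ ι j G) _ hφ hs
  rw [← show (c ≫ LefPen.secToSpec ι ({G} : Set (LefPen.Form r k d))).smoothLocus = (cutMap (k := k) (φ ι j G)).smoothLocus
    by congr 1, ← Scheme.Hom.preimage_smoothLocus_eq] at h1
  exact h1

theorem not_smoothAt_of_sing (hd : 1 ≤ d) (G : LefPen.Form r k d) (q : Spec (CommRingCat.of k) ⟶ X)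
    (hq : q ≫ g0 ι = 𝟙 _) (j : Fin (r + 1)) (h : q pt ∈ U ι j)
    (y : LefPen.Sec ι ({G} : Set (LefPen.Form r k d))) (hy : LefPen.secι ι ({G} : Set (LefPen.Form r k d)) y = q pt)
    (h0 : φ ι j G ≠ 0) (hs : Sing (pA ι q hq j h) (φ ι j G)) :
    ¬ LefPen.SmoothAt (LefPen.secToSpec ι ({G} : Set (LefPen.Form r k d))) y := by
  obtain ⟨hsm, hdom, hnoe, ψ, h1, h2⟩ := chart_data ι n hd j q hq h
  obtain ⟨hφ, c, hc, hcg, rfl⟩ := (point_data ι G q hq j h).2 y hy
  haveI : LocallyOfFinitePresentation (cutMap (k := k) (φ ι j G)) := hcg ▸ inferInstance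
  intro hys
  refine not_mem_smoothLocus_of_sing (hdim_chart ι (n + 1) j) (by omega) (φ ι j G) h0 _ hs ψ h1 h2 ?_
  rw [← show (c ≫ LefPen.secToSpec ι ({G} : Set (LefPen.Form r k d))).smoothLocus = (cutMap (k := k) (φ ι j G)).smoothLocus
    by congr 1, ← Scheme.Hom.preimage_smoothLocus_eq]
  exact hys

omit [IsAlgClosed k] n [SmoothOfRelativeDimension (n + 1) (ι ≫ CohB1.ProjSpace.toSpec r k)] in
theorem φ_eq_zero (G : LefPen.Form r k d) (j j' : Fin (r + 1)) (hne : (U ι j ⊓ U ι j' : X.Opens) ≠ ⊥)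
    (h0 : φ ι j G = 0) : φ ι j' G = 0 := by
  obtain ⟨y, hy, hy'⟩ : ∃ y, y ∈ U ι j ∧ y ∈ U ι j' := by
    by_contra hcon
    exact hne (Opens.ext (Set.eq_empty_of_forall_notMem fun y hy => hcon ⟨y, hy⟩))
  obtain ⟨b, hbU, hyb⟩ := (isAffineOpen_U ι j').exists_basicOpen_le (V := U ι j) ⟨y, hy⟩ hy'
  let J := LefPen.secIdeal ι ({G} : Set (LefPen.Form r k d))
  let Wb : X.affineOpens := ⟨X.basicOpen b, (isAffineOpen_U ι j').basicOpen b⟩
  have e1 := (J.map_ideal (U := Wb) (V := ⟨U ι j, isAffineOpen_U ι j⟩) hbU).trans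
    (J.map_ideal (U := Wb) (V := ⟨U ι j', isAffineOpen_U ι j'⟩) (X.basicOpen_le b)).symm
  rw [mk_ideal_sec, mk_ideal_sec, Ideal.map_span, Ideal.map_span, Set.image_singleton, Set.image_singleton, h0,
    map_zero, Ideal.span_singleton_eq_bot.2 rfl, eq_comm, Ideal.span_singleton_eq_bot] at e1
  haveI : Nonempty (X.basicOpen b) := ⟨⟨y, hyb⟩⟩
  exact map_injective_of_isIntegral X (homOfLE (X.basicOpen_le b)) (e1.trans (map_zero _).symm)

/-- If the equation vanishes identically the section is smooth. -/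
theorem smoothAt_of_eq_zero (hd : 1 ≤ d) (G : LefPen.Form r k d) (q : Spec (CommRingCat.of k) ⟶ X)
    (hq : q ≫ g0 ι = 𝟙 _) (j : Fin (r + 1)) (h : q pt ∈ U ι j)
    (y : LefPen.Sec ι ({G} : Set (LefPen.Form r k d))) (hy : LefPen.secι ι ({G} : Set (LefPen.Form r k d)) y = q pt)
    (h0 : φ ι j G = 0) : LefPen.SmoothAt (LefPen.secToSpec ι ({G} : Set (LefPen.Form r k d))) y := by
  obtain ⟨hsm, -, -, -⟩ := chart_data ι n hd j q hq h
  obtain ⟨hφ, c, hc, hcg, rfl⟩ := (point_data ι G q hq j h).2 y hy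
  haveI : Algebra.Smooth k (Γ(X, U ι j) ⧸ Ideal.span {φ ι j G}) :=
    haveI := hsm
    Algebra.Smooth.of_equiv ((Ideal.quotientEquivAlgOfEq k
      (show Ideal.span {φ ι j G} = ⊥ by rw [h0, Ideal.span_singleton_eq_bot])).trans
        (AlgEquiv.quotientBot k Γ(X, U ι j))).symm
  haveI hS : Smooth (cutMap (k := k) (φ ι j G)) := by
    rw [HasRingHomProperty.Spec_iff (P := @Smooth), CommRingCat.hom_ofHom, RingHom.smooth_algebraMap]
    infer_instance
  have h1 : (cutPt (pA ι q hq j h) (φ ι j G) hφ : Spec (CommRingCat.of _)) ∈ (cutMap (k := k) (φ ι j G)).smoothLocus := by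
    rw [Scheme.Hom.smoothLocus_eq_top]; trivial
  rw [← show (c ≫ LefPen.secToSpec ι ({G} : Set (LefPen.Form r k d))).smoothLocus = (cutMap (k := k) (φ ι j G)).smoothLocus
    by congr 1, ← Scheme.Hom.preimage_smoothLocus_eq] at h1
  exact h1

variable (j : Fin (r + 1)) (gA : Γ(X, U ι j)) (z : Fin (n + 1) → Localization.Away gA)
  (b : Basis (Fin (n + 1)) (Localization.Away gA) Ω[Localization.Away gA⁄k])
  (hb : ∀ l, b l = D k (Localization.Away gA) (z l))

include hb in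
/-- A non-degenerate quadratic part gives an ordinary double point. -/
theorem good_of_nd (hd : 1 ≤ d) (G : LefPen.Form r k d) (q : Spec (CommRingCat.of k) ⟶ X) (hq : q ≫ g0 ι = 𝟙 _)
    (h : q pt ∈ U ι j) (hs : Sing (pA ι q hq j h) (φ ι j G)) (pT : Localization.Away gA →ₐ[k] k)
    (hpT : ∀ a, pT (algebraMap _ _ a) = pA ι q hq j h a)
    {e : Localization.Away gA ⊗[k] Localization.Away gA} (he : ev pT pT e = 1)
    {g : Matrix (Fin (n + 1)) (Fin (n + 1)) (Localization.Away gA ⊗[k] Localization.Away gA)}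
    (hg : IsTaylor z b e (algebraMap _ _ (φ ι j G)) g) (hnd : ND (g.map (ev pT pT))) : Good ι n G q := by
  intro y hy
  obtain ⟨hsm, hdom, hnoe, ψ, h1, h2⟩ := chart_data ι n hd j q hq h
  have hgA : pA ι q hq j h gA ≠ 0 := by
    rw [← hpT]
    exact ((IsLocalization.Away.algebraMap_isUnit gA).map pT).ne_zero
  obtain ⟨pT', hpT', hsT, hψ⟩ := exists_extend (n := n + 1) (T := Localization.Away gA) gA (pA ι q hq j h) hgA
  obtain rfl : pT = pT' := IsLocalization.algHom_ext (Submonoid.powers gA) (AlgHom.ext fun a => (hpT a).trans (hpT' a).symm)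
  obtain ⟨ψT, hψT, hT1, hT2⟩ := hψ ψ h1 h2
  obtain ⟨L, hL, hjet⟩ := exists_jet z b hb pT ψT hT1 hT2 he hg (hsT _ hs)
  rw [hψT] at hjet
  have hnd1 : ND (Lᵀ * g.map (ev pT pT) * L) := hnd.congr hL
  have h0 : φ ι j G ≠ 0 := by
    intro h0
    rw [h0, map_zero, zero_sub] at hjet
    have hz := quad_unique (polyQ_isHomogeneous _) (neg_mem_iff.1 hjet)
    have hnd0 : ND (0 : Matrix (Fin (n + 1)) (Fin (n + 1)) k) :=
      nd_of_polyQ_eq (by rw [hz]; simp [polyQ]) hnd1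
    have := congrFun (hnd0 (Pi.single 0 1) (by rw [zero_mulVec, dotProduct_zero])
      (by rw [transpose_zero, add_zero, zero_mulVec])) 0
    simp at this
  refine ⟨not_smoothAt_of_sing ι n hd G q hq j h y hy h0 hs, ?_⟩
  obtain ⟨hφ, c, hc, hcg, hcy⟩ := (point_data ι G q hq j h).2 y hy
  subst hcy
  refine OqsLib.ordQuad_of_affine_form _ ψ h1 h2 (φ ι j G) (formQ _) (nondegQuad_of_nd _ hnd1) hjet _ rfl _ c hcg _ rfl ?_
  have hcl : IsClosed ({q pt} : Set X) := ((pointEquivClosedPoint (g0 ι)) ⟨q, hq⟩).2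
  refine (congrArg IsClosed ?_).mpr (hcl.preimage (LefPen.secι ι ({G} : Set (LefPen.Form r k d))).continuous)
  exact Set.ext fun y' => ⟨fun h => (congrArg (fun z => LefPen.secι ι ({G} : Set (LefPen.Form r k d)) z)
      (Set.mem_singleton_iff.1 h)).trans hy,
    fun h => (LefPen.secι ι ({G} : Set (LefPen.Form r k d))).isClosedEmbedding.injective (h.trans hy.symm)⟩

include hb in
/-- An ordinary double point has a non-degenerate quadratic part. -/
theorem nd_of_ordQuad (hd : 1 ≤ d) (G : LefPen.Form r k d) (q : Spec (CommRingCat.of k) ⟶ X) (hq : q ≫ g0 ι = 𝟙 _)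
    (h : q pt ∈ U ι j) (hs : Sing (pA ι q hq j h) (φ ι j G)) (pT : Localization.Away gA →ₐ[k] k)
    (hpT : ∀ a, pT (algebraMap _ _ a) = pA ι q hq j h a)
    {e : Localization.Away gA ⊗[k] Localization.Away gA} (he : ev pT pT e = 1)
    {g : Matrix (Fin (n + 1)) (Fin (n + 1)) (Localization.Away gA ⊗[k] Localization.Away gA)}
    (hg : IsTaylor z b e (algebraMap _ _ (φ ι j G)) g)
    (y : LefPen.Sec ι ({G} : Set (LefPen.Form r k d))) (hy : LefPen.secι ι ({G} : Set (LefPen.Form r k d)) y = q pt)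
    (hord : LefPen.IsOrdQuadSing k n (LefPen.secToSpec ι ({G} : Set (LefPen.Form r k d))) y) :
    ND (g.map (ev pT pT)) := by
  obtain ⟨hsm, hdom, hnoe, ψ, h1, h2⟩ := chart_data ι n hd j q hq h
  have hgA : pA ι q hq j h gA ≠ 0 := by
    rw [← hpT]
    exact ((IsLocalization.Away.algebraMap_isUnit gA).map pT).ne_zero
  obtain ⟨pT', hpT', hsT, hψ⟩ := exists_extend (n := n + 1) (T := Localization.Away gA) gA (pA ι q hq j h) hgA
  obtain rfl : pT = pT' := IsLocalization.algHom_ext (Submonoid.powers gA) (AlgHom.ext fun a => (hpT a).trans (hpT' a).symm)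
  obtain ⟨ψT, hψT, hT1, hT2⟩ := hψ ψ h1 h2
  obtain ⟨L, hL, hjet⟩ := exists_jet z b hb pT ψT hT1 hT2 he hg (hsT _ hs)
  rw [hψT] at hjet
  obtain ⟨hφ, c, hc, hcg, hcy⟩ := (point_data ι G q hq j h).2 y hy
  subst hcy
  obtain ⟨-, Q0, Q₂, e0, he0, hstart, hquad, hQ⟩ := hord
  obtain ⟨e1, he1⟩ := OqsLib.exists_stalk_equiv _ ψ h1 h2 (φ ι j G) hφ
    (LefPen.secToSpec ι ({G} : Set (LefPen.Form r k d))) c hcg (cutPt _ _ hφ) rfl
  obtain ⟨G0, hG0⟩ := exists_matrix_of_homogeneous Q₂.1 ((MvPolynomial.mem_homogeneousSubmodule _ _).1 Q₂.2)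
  have hQ0 : Q0 - ((polyQ G0 : MvPolynomial (Fin (n + 1)) k) : MvPowerSeries (Fin (n + 1)) k) ∈
      maximalIdeal (MvPowerSeries (Fin (n + 1)) k) ^ 3 := by
    refine mem_pow_of_coeff 3 _ fun e he => ?_
    rw [map_sub, MvPolynomial.coeff_coe, hG0]
    rcases Nat.lt_or_ge e.degree 2 with he2 | he2
    · rw [hstart e he2, ((MvPolynomial.mem_homogeneousSubmodule _ _).1 Q₂.2).coeff_eq_zero (by omega), sub_zero]
    · rw [hquad e (by omega), sub_self]
  have hnd0 : ND G0 := nd_of_nondegQuad G0 (by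
    rw [show formQ G0 = Q₂ from Subtype.ext hG0]; exact hQ)
  have hnd1 : ND (Lᵀ * g.map (ev pT pT) * L) := nd_of_equiv hQ0 hjet (e0.symm.trans e1) (fun a => by
    show e1 (e0.symm (Ideal.Quotient.mk _ (MvPowerSeries.C a))) = _
    rw [← he0, RingEquiv.symm_apply_apply, he1]) hnd0
  have h3 := hnd1.congr (L := L⁻¹) (Matrix.isUnit_nonsing_inv_det L hL)
  rwa [Matrix.transpose_nonsing_inv, Matrix.mul_assoc, Matrix.mul_assoc, Matrix.mul_nonsing_inv _ hL, mul_one,
    ← Matrix.mul_assoc, Matrix.nonsing_inv_mul _ (by rwa [Matrix.det_transpose]), one_mul] at h3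

end Groth.Agent.OdpLib
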