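import Groth.Agent.OdpLib.Jet
import Groth.Agent.LefDualLib.Cut
import Groth.Agent.OqsLib.Compl
import Groth.Agent.S2471
import Mathlib.RingTheory.KrullDimension.NonZeroDivisors
import Mathlib.RingTheory.RegularLocalRing.Defs

/-!
# The smooth locus of a hypersurface and the singular points of its equation
-/

set_option autoImplicit false
set_option maxHeartbeats 600000
set_option backward.isDefEq.respectTransparency false
set_option backward.isDefEq.respectTransparency.types false
set_option linter.style.haveILetI false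
universe u
open CategoryTheory AlgebraicGeometry IsLocalRing MvPowerSeries KaehlerDifferential

noncomputable section

namespace Groth.Agent.OdpLib

variable {k : Type u} [Field k] {A : Type u} [CommRing A] [Algebra k A]

/-- The zero locus of a function as a scheme over `k`. -/
abbrev cutMap (φ : A) : Spec (CommRingCat.of (A ⧸ Ideal.span {φ})) ⟶ Spec (CommRingCat.of k) :=
  Spec.map (CommRingCat.ofHom (algebraMap k (A ⧸ Ideal.span {φ})))

/-- A point of the zero locus. -/
def cutPt (p : A →ₐ[k] k) (φ : A) (hφ : p φ = 0) : PrimeSpectrum (A ⧸ Ideal.span {φ}) :=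
  haveI : (RingHom.ker p.toRingHom).IsPrime := RingHom.ker_isPrime _
  ⟨(RingHom.ker p.toRingHom).map (Ideal.Quotient.mk _), Ideal.map_isPrime_of_surjective Ideal.Quotient.mk_surjective
    (by rw [Ideal.mk_ker, Ideal.span_singleton_le_iff_mem]; exact hφ)⟩

theorem comap_cutPt (p : A →ₐ[k] k) (φ : A) (hφ : p φ = 0) :
    (cutPt p φ hφ).asIdeal.comap (Ideal.Quotient.mk _) = RingHom.ker p.toRingHom := by
  show ((RingHom.ker p.toRingHom).map (Ideal.Quotient.mk (Ideal.span {φ}))).comap _ = _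
  rw [Ideal.comap_map_of_surjective _ Ideal.Quotient.mk_surjective, ← RingHom.ker, Ideal.mk_ker,
    sup_eq_left.2 ((Ideal.span_singleton_le_iff_mem _).2 hφ)]

variable [Algebra.Smooth k A] {m n : ℕ} (x : Fin m → A)

/-- A point where the differential is non-zero is a smooth point. -/
theorem mem_smoothLocus_of_not_sing (hx : Function.Surjective (MvPolynomial.aeval x : MvPolynomial (Fin m) k →ₐ[k] A))
    (hdim : ∀ P ∈ minimalPrimes A, ringKrullDim (A ⧸ P) = n) (φ : A) [LocallyOfFinitePresentation (cutMap (k := k) φ)]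
    (p : A →ₐ[k] k) (hφ : p φ = 0) (hs : ¬ LefDualLib.Sing p φ) :
    (cutPt p φ hφ : Spec (CommRingCat.of (A ⧸ Ideal.span {φ}))) ∈ (cutMap (k := k) φ).smoothLocus := by
  simp only [LefDualLib.Sing, hφ, true_and, not_forall] at hs
  obtain ⟨ψ, hψ⟩ := hs
  obtain ⟨f, hf, hsm⟩ := LefDualLib.smooth_cut_at x hx hdim φ (cutPt p φ hφ).asIdeal (cutPt p φ hφ).2
    ⟨ψ, by rw [comap_cutPt]; exact hψ⟩
  haveI := hsm
  let j : Spec (CommRingCat.of (Localization.Away f)) ⟶ Spec (CommRingCat.of (A ⧸ Ideal.span {φ})) :=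
    Spec.map (CommRingCat.ofHom (algebraMap _ (Localization.Away f)))
  haveI : IsOpenImmersion j := IsOpenImmersion.of_isLocalization f
  haveI : Smooth (j ≫ cutMap (k := k) φ) := by
    rw [← Spec.map_comp, ← CommRingCat.ofHom_comp, ← IsScalarTower.algebraMap_eq]
    exact SmoothOfRelativeDimension.smooth (n - 1) _
  obtain ⟨q, hq⟩ : cutPt p φ hφ ∈ Set.range (PrimeSpectrum.comap (algebraMap _ (Localization.Away f))) := by
    rw [PrimeSpectrum.localization_away_comap_range (S := Localization.Away f) f]; exact hf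
  have h : q ∈ j ⁻¹ᵁ (cutMap (k := k) φ).smoothLocus := by
    rw [Scheme.Hom.preimage_smoothLocus_eq, Scheme.Hom.smoothLocus_eq_top]; trivial
  exact hq ▸ h

/-- A singular point of a non-zero equation is not smooth. -/
theorem not_mem_smoothLocus_of_sing [IsDomain A] (hdim : ∀ P ∈ minimalPrimes A, ringKrullDim (A ⧸ P) = n) (hn : 1 ≤ n)
    (φ : A) [LocallyOfFinitePresentation (cutMap (k := k) φ)] (hφ0 : φ ≠ 0) [IsNoetherianRing A]
    (p : A →ₐ[k] k) (hs : LefDualLib.Sing p φ) (ψ : A →ₐ[k] MvPowerSeries (Fin n) k)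
    (h1 : ∀ (a : A) (i : ℕ), ψ a ∈ maximalIdeal (MvPowerSeries (Fin n) k) ^ i ↔ a ∈ RingHom.ker p.toRingHom ^ i)
    (h2 : ∀ (g : MvPowerSeries (Fin n) k) (i : ℕ), ∃ a, ψ a - g ∈ maximalIdeal (MvPowerSeries (Fin n) k) ^ i) :
    (cutPt p φ hs.1 : Spec (CommRingCat.of (A ⧸ Ideal.span {φ}))) ∉ (cutMap (k := k) φ).smoothLocus := by
  classical
  intro hmem
  let B := A ⧸ Ideal.span {φ}
  let P : Ideal B := (cutPt p φ hs.1).asIdeal
  obtain ⟨-, ⟨f, rfl⟩, hf, hfle⟩ :=
    PrimeSpectrum.isTopologicalBasis_basic_opens.exists_subset_of_mem_open hmem (cutMap (k := k) φ).smoothLocus.isOpen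
  let j : Spec (CommRingCat.of (Localization.Away f)) ⟶ Spec (CommRingCat.of B) :=
    Spec.map (CommRingCat.ofHom (algebraMap _ (Localization.Away f)))
  haveI : IsOpenImmersion j := IsOpenImmersion.of_isLocalization f
  have hsm : Smooth (j ≫ cutMap (k := k) φ) := by
    rw [← Scheme.Hom.smoothLocus_eq_top_iff, ← Scheme.Hom.preimage_smoothLocus_eq, eq_top_iff]
    intro q _
    refine hfle ?_
    have : j q ∈ Set.range (PrimeSpectrum.comap (algebraMap B (Localization.Away f))) := ⟨q, rfl⟩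
    rwa [PrimeSpectrum.localization_away_comap_range (S := Localization.Away f) f] at this
  rw [← Spec.map_comp, ← CommRingCat.ofHom_comp, ← IsScalarTower.algebraMap_eq,
    HasRingHomProperty.Spec_iff (P := @Smooth), CommRingCat.hom_ofHom, RingHom.smooth_algebraMap] at hsm
  haveI : Algebra.FinitePresentation k A := inferInstance
  haveI : Algebra.FinitePresentation k B := Algebra.FinitePresentation.quotient ⟨{φ}, by simp⟩
  haveI : Algebra.IsSmoothAt k P := Algebra.basicOpen_subset_smoothLocus_iff_smooth.2 hsm hf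
  haveI : P.IsPrime := (cutPt p φ hs.1).2
  let R := Localization.AtPrime P
  haveI : IsNoetherianRing R := IsLocalization.isNoetherianRing P.primeCompl _ inferInstance
  haveI : Algebra.FormallySmooth k R := ‹Algebra.IsSmoothAt k P›
  haveI : IsRegularLocalRing R := ((S2471.result (k := k)).mp fun C _ _ J hJ θ _ =>
    Algebra.FormallySmooth.comp_surjective k R J hJ θ).1
  -- few generators
  have hs_le : (maximalIdeal R).spanFinrank + 1 ≤ n := by
    have hA : ringKrullDim A = n := by
      have := hdim ⊥ (by rw [IsDomain.minimalPrimes_eq_singleton_bot]; rfl)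
      rwa [ringKrullDim_eq_of_ringEquiv (RingEquiv.quotientBot A)] at this
    have hR : ringKrullDim R ≤ ringKrullDim B := by
      rw [IsLocalization.AtPrime.ringKrullDim_eq_height P R]
      exact Ideal.height_le_ringKrullDim_of_ne_top (Ideal.IsPrime.ne_top ‹_›)
    have h3 := (add_le_add_left hR 1).trans
      (ringKrullDim_quotient_succ_le_of_nonZeroDivisor (mem_nonZeroDivisors_of_ne_zero hφ0))
    rw [hA, ← IsRegularLocalRing.spanFinrank_maximalIdeal] at h3
    exact_mod_cast h3
  obtain ⟨S, hScard, hS⟩ := (IsNoetherian.noetherian (maximalIdeal R)).exists_span_finset_card_eq_spanFinrank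
  let m₀ : Ideal A := RingHom.ker p.toRingHom
  have hR : maximalIdeal R = P.map (algebraMap B R) := (IsLocalization.AtPrime.map_eq_maximalIdeal P R).symm
  have hP : P = m₀.map (Ideal.Quotient.mk _) := rfl
  choose a s has using fun r : R => IsLocalization.exists_mk'_eq (M := P.primeCompl) r
  choose a' ha' using fun r : R => Ideal.Quotient.mk_surjective (a r)
  -- pad the generators
  let e : S → Fin n := fun r => ⟨S.equivFin r, lt_of_lt_of_le (S.equivFin r).2 (by omega)⟩
  let G : Fin n → A := fun l => if h : (l : ℕ) < S.card then a' (S.equivFin.symm ⟨l, h⟩) else 0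
  let J : Ideal A := Ideal.span (Set.range G)
  have hGm : ∀ l, G l ∈ m₀ := by
    intro l
    simp only [G]
    split_ifs with h
    · have hr : ((S.equivFin.symm ⟨l, h⟩ : S) : R) ∈ maximalIdeal R := by
        rw [← hS]; exact Submodule.subset_span (S.equivFin.symm ⟨l, h⟩).2
      rw [← has (S.equivFin.symm ⟨l, h⟩ : R), IsLocalization.AtPrime.mk'_mem_maximal_iff R P] at hr
      rw [← ha', hP, Ideal.mem_quotient_iff_mem_sup,
        sup_eq_left.2 ((Ideal.span_singleton_le_iff_mem _).2 (show φ ∈ m₀ from hs.1))] at hr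
      exact hr
    · exact zero_mem _
  have hgen : maximalIdeal R ≤ (J.map (Ideal.Quotient.mk _)).map (algebraMap B R) := by
    rw [← hS]
    refine Submodule.span_le.2 fun r hr => ?_
    rw [SetLike.mem_coe, ← has r, IsLocalization.mk'_eq_mul_mk'_one]
    refine Ideal.mul_mem_right _ _ (Ideal.mem_map_of_mem _ ?_)
    rw [← ha' r]
    refine Ideal.mem_map_of_mem _ (Ideal.subset_span ⟨e ⟨r, hr⟩, ?_⟩)
    simp [G, e]
  have hM2 : ψ φ ∈ maximalIdeal (MvPowerSeries (Fin n) k) ^ 2 :=
    (h1 φ 2).2 (LefDualLib.mem_sq_of_sing p hs)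
  choose L hL using fun l => exists_linPart (h := ψ (G l)) (by
    have := (h1 (G l) 1).2 (by rw [pow_one]; exact hGm l)
    rwa [pow_one] at this)
  have hzero : Matrix.of L ⟨n - 1, by omega⟩ = 0 := by
    have := hL ⟨n - 1, by omega⟩
    simp only [G, dif_neg (show ¬ n - 1 < S.card by omega), map_zero, zero_sub] at this
    exact (lin_unique (c := 0) (a := L ⟨n - 1, by omega⟩) (by simpa using neg_mem this)).2
  refine not_isUnit_zero (M₀ := k) ?_
  rw [← Matrix.det_eq_zero_of_row_eq_zero (A := Matrix.of L) ⟨n - 1, by omega⟩ (fun q => congrFun hzero q)]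
  refine isUnit_of_span (ξ := fun l => ψ (G l)) (Matrix.of L) hL fun i => ?_
  obtain ⟨b, hb⟩ := h2 (X i) 2
  have hbm : b ∈ m₀ := by
    have : ψ b ∈ maximalIdeal (MvPowerSeries (Fin n) k) ^ 1 := by
      rw [pow_one, ← sub_add_cancel (ψ b) (X i)]
      exact add_mem (Ideal.pow_le_self two_ne_zero hb) (X_mem_max i)
    have := (h1 b 1).1 this
    rwa [pow_one] at this
  have hbR : algebraMap B R (Ideal.Quotient.mk _ b) ∈ maximalIdeal R := by
    rw [hR]; exact Ideal.mem_map_of_mem _ (Ideal.mem_map_of_mem _ hbm)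
  obtain ⟨t, ht, htb⟩ := (IsLocalization.algebraMap_mem_map_algebraMap_iff P.primeCompl R _ _).1 (hgen hbR)
  obtain ⟨t', rfl⟩ := Ideal.Quotient.mk_surjective t
  rw [← map_mul, Ideal.mem_quotient_iff_mem_sup] at htb
  obtain ⟨u, hu, v, hv, huv⟩ := Submodule.mem_sup.1 htb
  obtain ⟨c, hc⟩ := Ideal.mem_span_range_iff_exists_fun.1 hu
  obtain ⟨d, rfl⟩ := Ideal.mem_span_singleton'.1 hv
  have ht0 : p t' ≠ 0 := fun h => ht (Ideal.mem_map_of_mem _ h)
  refine ⟨0, fun l => (p t')⁻¹ * p (c l), ?_⟩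
  let M := maximalIdeal (MvPowerSeries (Fin n) k)
  have hmul : ∀ (a : A) (y : MvPowerSeries (Fin n) k), y ∈ M → ψ a * y - C (p a) * y ∈ M ^ 2 := fun a y hy => by
    rw [← sub_mul, pow_two]
    exact Ideal.mul_mem_mul (psi_sub_mem p ψ h1 a) hy
  have hbM : ψ b ∈ M := by
    have := (h1 b 1).2 (by rw [pow_one]; exact hbm)
    rwa [pow_one] at this
  have hGM : ∀ l, ψ (G l) ∈ M := fun l => by
    have := (h1 (G l) 1).2 (by rw [pow_one]; exact hGm l)
    rwa [pow_one] at this
  have key : C (p t') * ψ b - ∑ l, C (p (c l)) * ψ (G l) ∈ M ^ 2 := by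
    have heq : ψ t' * ψ b = (∑ l, ψ (c l) * ψ (G l)) + ψ d * ψ φ := by
      rw [← map_mul, ← huv, ← hc]; simp only [map_add, map_sum, map_mul]
    rw [show C (p t') * ψ b - ∑ l, C (p (c l)) * ψ (G l) = -(ψ t' * ψ b - C (p t') * ψ b) +
      (∑ l, (ψ (c l) * ψ (G l) - C (p (c l)) * ψ (G l))) + ψ d * ψ φ by
      rw [heq, Finset.sum_sub_distrib]; ring]
    exact add_mem (add_mem (neg_mem (hmul t' _ hbM)) (Ideal.sum_mem _ fun l _ => hmul _ _ (hGM l)))
      (Ideal.mul_mem_left _ _ hM2)
  have e2 : (X i : MvPowerSeries (Fin n) k) - (C 0 + ∑ l, C ((p t')⁻¹ * p (c l)) * ψ (G l)) =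
      -(ψ b - X i) + C (p t')⁻¹ * (C (p t') * ψ b - ∑ l, C (p (c l)) * ψ (G l)) := by
    rw [mul_sub, ← mul_assoc, ← map_mul, inv_mul_cancel₀ ht0, map_one, one_mul, Finset.mul_sum]
    simp only [map_mul, mul_assoc, map_zero, zero_add]
    ring
  rw [e2]
  exact add_mem (neg_mem hb) (Ideal.mul_mem_left _ _ key)

end Groth.Agent.OdpLib
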