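import Groth.Agent.LefDualLib.Pts
import Groth.Agent.PSSmoothLib.Basic
import Mathlib.RingTheory.Finiteness.Nakayama
import Mathlib.RingTheory.TensorProduct.Finite
import Mathlib.RingTheory.Derivation.Basic

/-!
# Taylor expansion to second order along the diagonal
-/

set_option autoImplicit false
set_option maxHeartbeats 600000
set_option backward.isDefEq.respectTransparency false
set_option linter.style.haveILetI false
universe u
open TensorProduct KaehlerDifferential Module

noncomputable section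

namespace Groth.Agent.OdpLib

variable {k : Type u} [Field k] {A : Type u} [CommRing A] [Algebra k A] {n : ℕ}
  (z : Fin n → A) (b : Basis (Fin n) A Ω[A⁄k])

/-- The partial derivatives for a basis of differentials. -/
def pd (l : Fin n) : Derivation k A A := (b.coord l).compDer (D k A)

theorem pd_apply (l : Fin n) (a : A) : pd b l a = b.repr (D k A a) l := rfl

/-- The coordinate differences. -/
def du (l : Fin n) : A ⊗[k] A := (1 : A) ⊗ₜ[k] z l - z l ⊗ₜ[k] (1 : A)

/-- The partial derivative in the second factor. -/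
def pd2 (l : Fin n) : A ⊗[k] A →ₗ[k] A ⊗[k] A := (pd b l : A →ₗ[k] A).lTensor A

theorem pd2_mul (l : Fin n) (x y : A ⊗[k] A) : pd2 b l (x * y) = x * pd2 b l y + y * pd2 b l x := by
  induction x using TensorProduct.induction_on with
  | zero => simp
  | add x x' hx hx' => simp only [add_mul, map_add, hx, hx', mul_add]; ring
  | tmul a c =>
    induction y using TensorProduct.induction_on with
    | zero => simp
    | add y y' hy hy' => simp only [add_mul, map_add, hy, hy', mul_add]; ring
    | tmul a' c' =>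
      simp only [pd2, Algebra.TensorProduct.tmul_mul_tmul, LinearMap.lTensor_tmul, Derivation.coeFn_coe,
        Derivation.leibniz, smul_eq_mul, tmul_add, mul_comm a' a]

/-- The evaluation at a pair of points. -/
def ev (p p' : A →ₐ[k] k) : A ⊗[k] A →ₐ[k] k :=
  Algebra.TensorProduct.lift p p' fun _ _ => Commute.all _ _

@[simp] theorem ev_tmul (p p' : A →ₐ[k] k) (a c : A) : ev p p' (a ⊗ₜ c) = p a * p' c :=
  Algebra.TensorProduct.lift_tmul _ _ _ _ _

theorem ev_du (p p' : A →ₐ[k] k) (l : Fin n) : ev p p' (du z l) = p' (z l) - p (z l) := by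
  simp [du]

theorem ev_eq_zero_of_mem (p : A →ₐ[k] k) {x : A ⊗[k] A} (hx : x ∈ KaehlerDifferential.ideal k A) :
    ev p p x = 0 := by
  have e : ev p p = p.comp (Algebra.TensorProduct.lmul' k) :=
    Algebra.TensorProduct.ext' fun a c => by simp
  rw [e, AlgHom.comp_apply, show Algebra.TensorProduct.lmul' k x = 0 from hx, map_zero]

variable (hb : ∀ l, b l = D k A (z l))
include hb

theorem pd_z (i l : Fin n) : pd b i (z l) = if l = i then 1 else 0 := by
  rw [pd_apply, ← hb, b.repr_self, Finsupp.single_apply]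

theorem pd2_du (i l : Fin n) : pd2 b i (du z l) = if l = i then 1 else 0 := by
  simp only [pd2, du, map_sub, LinearMap.lTensor_tmul, Derivation.coeFn_coe, Derivation.map_one_eq_zero, tmul_zero,
    sub_zero, pd_z z b hb]
  split_ifs
  · rfl
  · exact tmul_zero _ _

theorem delta_sub_mem (a : A) :
    (1 : A) ⊗ₜ[k] a - a ⊗ₜ[k] (1 : A) - ∑ l, (pd b l a ⊗ₜ[k] (1 : A)) * du z l ∈ KaehlerDifferential.ideal k A ^ 2 := by
  let I := KaehlerDifferential.ideal k A
  have hu : ∀ c, (1 : A) ⊗ₜ[k] c - c ⊗ₜ[k] (1 : A) ∈ I := fun c => KaehlerDifferential.one_smul_sub_smul_one_mem_ideal k c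
  let y : I := ∑ l, (pd b l a ⊗ₜ[k] (1 : A)) • (⟨du z l, hu (z l)⟩ : I)
  have h : I.toCotangent ⟨_, hu a⟩ = I.toCotangent y := by
    rw [map_sum]
    show D k A a = _
    conv_lhs => rw [← b.sum_repr (D k A a)]
    refine Finset.sum_congr rfl fun l _ => ?_
    rw [map_smul, hb]
    exact (algebraMap_smul (A ⊗[k] A) (pd b l a) _).symm
  have := (Ideal.toCotangent_eq _).1 h
  simpa [y, Submodule.coe_sum] using this

theorem exists_e [Algebra.FiniteType k A] :
    ∃ e : A ⊗[k] A, (∀ p : A →ₐ[k] k, ev p p e = 1) ∧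
      ∀ x ∈ KaehlerDifferential.ideal k A, e * x ∈ Ideal.span (Set.range (du z)) := by
  let R := A ⊗[k] A
  let I : Ideal R := KaehlerDifferential.ideal k A
  haveI : Algebra.FiniteType A R := Algebra.FiniteType.baseChange A
  haveI : Algebra.FiniteType k R := Algebra.FiniteType.trans (S := A) inferInstance inferInstance
  haveI : IsNoetherianRing R := Algebra.FiniteType.isNoetherianRing k R
  let U : Ideal R := Ideal.span (Set.range (du z))
  let N : Submodule R (R ⧸ U) := Submodule.map (Submodule.mkQ U) I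
  have hle : I ≤ U ⊔ I ^ 2 := by
    rw [show I = Ideal.span _ from (KaehlerDifferential.span_range_eq_ideal k A).symm, Ideal.span_le]
    rintro _ ⟨a, rfl⟩
    simp only [SetLike.mem_coe]
    rw [show (1 : A) ⊗ₜ[k] a - a ⊗ₜ[k] (1 : A) = (∑ l, (pd b l a ⊗ₜ[k] (1 : A)) * du z l) +
      ((1 : A) ⊗ₜ[k] a - a ⊗ₜ[k] (1 : A) - ∑ l, (pd b l a ⊗ₜ[k] (1 : A)) * du z l) by ring]
    refine Submodule.add_mem_sup (Ideal.sum_mem _ fun l _ => Ideal.mul_mem_left _ _ (Ideal.subset_span ⟨l, rfl⟩)) ?_
    rw [KaehlerDifferential.span_range_eq_ideal]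
    exact delta_sub_mem z b hb a
  have hin : N ≤ I • N := by
    rintro _ ⟨x, hx, rfl⟩
    obtain ⟨s, hs, t, ht, rfl⟩ := Submodule.mem_sup.1 (hle hx)
    rw [map_add, show Submodule.mkQ U s = 0 from (Submodule.Quotient.mk_eq_zero _).2 hs, zero_add]
    rw [pow_two] at ht
    refine Submodule.mul_induction_on ht (fun c hc d hd => ?_) fun c d hc hd => by rw [map_add]; exact add_mem hc hd
    rw [← smul_eq_mul, map_smul]
    exact Submodule.smul_mem_smul hc ⟨d, hd, rfl⟩
  obtain ⟨e, he, hkill⟩ := Submodule.exists_sub_one_mem_and_smul_eq_zero_of_fg_of_le_smul I N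
    ((IsNoetherian.noetherian I).map _) hin
  refine ⟨e, fun p => ?_, fun x hx => ?_⟩
  · have := ev_eq_zero_of_mem p he
    rwa [map_sub, map_one, sub_eq_zero] at this
  · have := hkill _ ⟨x, hx, rfl⟩
    rw [← map_smul] at this
    exact (Submodule.Quotient.mk_eq_zero _).1 this

omit hb in
/-- The second-order Taylor relation. -/
def IsTaylor (e : A ⊗[k] A) (a : A) (g : Matrix (Fin n) (Fin n) (A ⊗[k] A)) : Prop :=
  e * e * ((1 : A) ⊗ₜ[k] a - a ⊗ₜ[k] (1 : A)) =
    (∑ l, e * e * (pd b l a ⊗ₜ[k] (1 : A)) * du z l) + ∑ l, ∑ j, g l j * du z l * du z j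

theorem exists_taylor {e : A ⊗[k] A}
    (he : ∀ x ∈ KaehlerDifferential.ideal k A, e * x ∈ Ideal.span (Set.range (du z))) (a : A) :
    ∃ g, IsTaylor z b e a g := by
  have key : ∀ x ∈ KaehlerDifferential.ideal k A ^ 2, ∃ g : Matrix (Fin n) (Fin n) (A ⊗[k] A),
      e * e * x = ∑ l, ∑ j, g l j * du z l * du z j := by
    intro x hx
    rw [pow_two] at hx
    refine Submodule.mul_induction_on hx (fun c hc d hd => ?_) fun c d ⟨g, hg⟩ ⟨g', hg'⟩ => ⟨g + g', ?_⟩
    · obtain ⟨α, hα⟩ := Ideal.mem_span_range_iff_exists_fun.1 (he c hc)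
      obtain ⟨β, hβ⟩ := Ideal.mem_span_range_iff_exists_fun.1 (he d hd)
      refine ⟨fun l j => α l * β j, ?_⟩
      rw [show e * e * (c * d) = (e * c) * (e * d) by ring, ← hα, ← hβ, Finset.sum_mul_sum]
      exact Finset.sum_congr rfl fun l _ => Finset.sum_congr rfl fun j _ => by ring
    · rw [mul_add, hg, hg', ← Finset.sum_add_distrib]
      simp only [Matrix.add_apply, add_mul, Finset.sum_add_distrib]
  obtain ⟨g, hg⟩ := key _ (delta_sub_mem z b hb a)
  refine ⟨g, ?_⟩
  show _ = _
  rw [← hg, mul_sub (e * e) _ (∑ l, _), Finset.mul_sum]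
  simp only [← mul_assoc]
  ring

omit hb in
/-- The matrix of the linear equations. -/
def polar (g : Matrix (Fin n) (Fin n) (A ⊗[k] A)) : Matrix (Fin n) (Fin n) (A ⊗[k] A) :=
  fun i j => g i j + g j i + ∑ l, pd2 b i (g l j) * du z l

omit hb in
theorem polar_diag (g : Matrix (Fin n) (Fin n) (A ⊗[k] A)) (p : A →ₐ[k] k) :
    (polar z b g).map (ev p p) = g.map (ev p p) + (g.map (ev p p)).transpose := by
  ext i j
  simp [polar, map_sum, ev_du]

/-- Two singular points of one function give a singular vector. -/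
theorem taylor_pair {e : A ⊗[k] A} {a : A} {g : Matrix (Fin n) (Fin n) (A ⊗[k] A)} (hg : IsTaylor z b e a g)
    (p p' : A →ₐ[k] k) (ha : p a = 0) (hda : ∀ l, p (pd b l a) = 0) (ha' : p' a = 0)
    (hda' : ∀ l, p' (pd b l a) = 0) :
    (fun l => p' (z l) - p (z l)) ⬝ᵥ ((g.map (ev p p')).mulVec fun l => p' (z l) - p (z l)) = 0 ∧
      ((polar z b g).map (ev p p')).mulVec (fun l => p' (z l) - p (z l)) = 0 := by
  constructor
  · have h := congrArg (ev p p') hg
    simp only [map_mul, map_sub, map_add, map_sum, ev_tmul, map_one, ha, ha', hda, mul_one, mul_zero, zero_mul,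
      sub_zero, Finset.sum_const_zero, zero_add, ev_du] at h
    rw [h]
    simp only [dotProduct, Matrix.mulVec, Matrix.map_apply, Finset.mul_sum]
    exact Finset.sum_congr rfl fun l _ => Finset.sum_congr rfl fun j _ => by ring
  · funext i
    have h := congrArg (ev p p') (congrArg (pd2 b i) hg)
    simp only [pd2_mul, map_add, map_sum, map_mul, map_sub, pd2_du z b hb, ev_du, ev_tmul, ha, ha', hda, map_one,
      one_mul, mul_one, mul_zero, zero_mul, sub_zero, zero_add, add_zero,
      Finset.sum_const_zero, Finset.sum_add_distrib] at h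
    have hz : ∀ c : A, ev p p' (pd2 b i (c ⊗ₜ[k] (1 : A))) = 0 := fun c => by simp [pd2]
    have ht : ev p p' (pd2 b i ((1 : A) ⊗ₜ[k] a)) = 0 := by simp [pd2, hda' i]
    rw [ht, hz] at h
    simp only [hz, mul_zero, zero_mul, sub_zero, add_zero, zero_add, Finset.sum_const_zero, apply_ite (ev p p'),
      map_one, map_zero, mul_ite, mul_one, Finset.sum_ite_eq', Finset.mem_univ, if_true,
      Finset.sum_ite_irrel, mul_add, Finset.sum_add_distrib] at h
    simp only [Matrix.mulVec, dotProduct, Matrix.map_apply, polar, map_add, map_sum, map_mul, ev_du, add_mul,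
      Finset.sum_add_distrib, Finset.sum_mul, Pi.zero_apply]
    rw [h]
    rw [Finset.sum_comm (γ := Fin n) (f := fun j l => ev p p' (pd2 b i (g l j)) * (p' (z l) - p (z l)) * (p' (z j) - p (z j)))]
    simp only [mul_comm, mul_left_comm, mul_assoc]
    ring

/-- Points with the same coordinates near the diagonal coincide. -/
theorem eq_of_du {e : A ⊗[k] A}
    (he : ∀ x ∈ KaehlerDifferential.ideal k A, e * x ∈ Ideal.span (Set.range (du z))) (p p' : A →ₐ[k] k)
    (hne : ev p p' e ≠ 0) (hw : ∀ l, p' (z l) - p (z l) = 0) : p = p' := by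
  refine AlgHom.ext fun a => ?_
  obtain ⟨c, hc⟩ := Ideal.mem_span_range_iff_exists_fun.1
    (he _ (KaehlerDifferential.one_smul_sub_smul_one_mem_ideal k a))
  have h := congrArg (ev p p') hc
  simp only [map_sum, map_mul, ev_du, hw, mul_zero, Finset.sum_const_zero, map_sub, ev_tmul, map_one, one_mul,
    mul_one] at h
  exact (sub_eq_zero.1 ((mul_eq_zero.1 h.symm).resolve_left hne)).symm

omit hb in
theorem sing_iff_pd (p : A →ₐ[k] k) (a : A) :
    LefDualLib.Sing p a ↔ p a = 0 ∧ ∀ l, p (pd b l a) = 0 := by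
  refine ⟨fun h => ⟨h.1, fun l => h.2 (b.coord l)⟩, fun h => ⟨h.1, fun ψ => ?_⟩⟩
  rw [← b.sum_repr (D k A a), map_sum, map_sum]
  exact Finset.sum_eq_zero fun l _ => by
    rw [map_smul, smul_eq_mul, map_mul]; exact mul_eq_zero_of_left (h.2 l) _

end Groth.Agent.OdpLib
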